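import Groth.Agent.RedSub.K197.Isog
import Groth.Agent.Sga3B.AlgBc
import Groth.Agent.Sga3B.SplitBc264

/-!
# Checking properties of morphisms fppf locally on the base; base change of the centre
-/

set_option autoImplicit false
universe u

open CategoryTheory MonoidalCategory CartesianMonoidalCategory MonObj GrpObj AlgebraicGeometry Limits

namespace K197.LocP

open Groth.Agent.Sga3B

variable {S : Scheme.{u}}

section P

variable (P : MorphismProperty Scheme.{u}) [P.IsStableUnderBaseChange] {X Y : Over S} (a : X ⟶ Y)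

omit [P.IsStableUnderBaseChange] in
lemma of_has_id [P.RespectsIso] (h : K7.Loc.Has P a (𝟙 S)) : P a.left := by
  have h1 := K7.Loc.isPullback_map (𝟙 S) a
  have h2 : IsIso (pullback.fst X.hom (𝟙 S)) := inferInstance
  have h3 : IsIso (pullback.fst Y.hom (𝟙 S)) := inferInstance
  exact (P.arrow_mk_iso_iff (Arrow.isoMk (asIso (pullback.fst X.hom (𝟙 S)))
    (asIso (pullback.fst Y.hom (𝟙 S))) h1.w)).1 h

theorem of_locally [IsZariskiLocalAtTarget P] [P.DescendsAlong (@Surjective ⊓ @Flat ⊓ @QuasiCompact)]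
    (h : ∀ s : S, ∃ (T : Scheme.{u}) (g : T ⟶ S), Flat g ∧ LocallyOfFinitePresentation g ∧
      s ∈ Set.range g ∧ P ((Over.pullback g).map a).left) : P a.left := by
  apply of_has_id
  apply K7.Loc.has_of_locally
  intro s
  obtain ⟨T, g, h1, h2, h3, h4⟩ := h s
  refine ⟨T, g, h1, h2, h3, ?_⟩
  exact K7.Loc.Has.of_eq (f := g) h4 (Category.comp_id g).symm

end P

/-- an isomorphism can be checked fppf locally on the base -/
theorem isIso_of_locally {X Y : Over S} (a : X ⟶ Y)
    (h : ∀ s : S, ∃ (T : Scheme.{u}) (g : T ⟶ S), Flat g ∧ LocallyOfFinitePresentation g ∧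
      s ∈ Set.range g ∧ IsIso ((Over.pullback g).map a)) : IsIso a := by
  have h1 : MorphismProperty.isomorphisms Scheme.{u} a.left := by
    refine of_locally (MorphismProperty.isomorphisms Scheme.{u}) a fun s => ?_
    obtain ⟨T, g, h1, h2, h3, h4⟩ := h s
    exact ⟨T, g, h1, h2, h3, inferInstanceAs (IsIso ((Over.forget _).map ((Over.pullback g).map a)))⟩
  have h2 : IsIso ((Over.forget S).map a) := h1
  exact isIso_of_reflects_iso a (Over.forget S)

/-- factoring through a monomorphism can be checked fppf locally on the base -/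
theorem exists_fac {T K G : Over S} (k : K ⟶ G) [Mono k] (x : T ⟶ G)
    (h : ∀ s : S, ∃ (V : Scheme.{u}) (g : V ⟶ S), Flat g ∧ LocallyOfFinitePresentation g ∧
      s ∈ Set.range g ∧ ∃ y : (Over.pullback g).obj T ⟶ (Over.pullback g).obj K,
        y ≫ (Over.pullback g).map k = (Over.pullback g).map x) : ∃ y : T ⟶ K, y ≫ k = x := by
  have hp := IsPullback.of_hasPullback x k
  have h1 : IsIso (pullback.fst x k) := by
    refine isIso_of_locally _ fun s => ?_
    obtain ⟨V, g, h1, h2, h3, y, hy⟩ := h s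
    refine ⟨V, g, h1, h2, h3, ?_⟩
    have h4 := hp.map (Over.pullback g)
    obtain ⟨l, hl, -⟩ := h4.exists_lift (𝟙 _) y (by rw [Category.id_comp, hy])
    have h5 : Mono ((Over.pullback g).map (pullback.fst x k)) := inferInstance
    have h6 : IsSplitEpi ((Over.pullback g).map (pullback.fst x k)) := ⟨⟨⟨l, hl⟩⟩⟩
    exact isIso_of_mono_of_isSplitEpi _
  exact ⟨inv (pullback.fst x k) ≫ pullback.snd x k, by
    rw [Category.assoc, ← pullback.condition, IsIso.inv_hom_id_assoc]⟩

variable {S' : Scheme.{u}} (f : S' ⟶ S) {G Z : Over S} [GrpObj G] [GrpObj Z]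

lemma isCentre_bc {j : Z ⟶ G} (h : Red.IsCentre j) : Red.IsCentre ((Over.pullback f).map j) := by
  have h1 := SplitBc264.isCentralizerOf_bc (f := f) h
  rw [CategoryTheory.Functor.map_id] at h1
  exact h1

end K197.LocP
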