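import Groth.Agent.RedSub.K197.RadSplit
import Groth.Agent.RedSub.K197.LocP
import Groth.Agent.RedSub.H654.LocChart

/-!
# Central tori of a reductive group are contained in the radical
-/

set_option autoImplicit false
universe u

open CategoryTheory MonoidalCategory CartesianMonoidalCategory MonObj GrpObj AlgebraicGeometry Limits

namespace K197.Rad

open Groth.Agent.Sga3B Groth.Agent.RedSub.H654.LocChart

variable {S : Scheme.{u}} {G ZZ R Q : Over S} [GrpObj G] [GrpObj ZZ] [GrpObj R] [GrpObj Q]

/-- a homomorphism from a torus to the centre of a reductive group factors through the radical -/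
theorem exists_le_rad (hG : Red.IsReductive G) {j : ZZ ⟶ G} (hZ : Red.IsCentre j) {r : R ⟶ ZZ}
    (hR : Red.IsMaximalTorus r) (hQ : Red.IsTorus Q) (q : Q ⟶ ZZ) [IsMonHom q] :
    ∃ q' : Q ⟶ R, q' ≫ r = q := by
  have hr := hR.2.1
  refine LocP.exists_fac r q fun s => ?_
  obtain ⟨c, hc⟩ := exists_pchart hG s
  refine ⟨_, c.v, inferInstance, inferInstance, hc, ?_⟩
  have hZ' := LocP.isCentre_bc c.v hZ
  obtain ⟨w, hw, hwm, h⟩ := RadSplit.rad_iso c.D.toSplitRed ((Over.pullback c.v).map j)
    hZ' ((Over.pullback c.v).map r) (AlgBc.isMaximalTorus_bc _ hR)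
  obtain ⟨w', h'⟩ := RadSplit.exists_lift_of_torus c.D.toSplitRed ((Over.pullback c.v).map j)
    hZ' (TorusBc.isTorus_bc c.v hQ) ((Over.pullback c.v).map q)
  refine ⟨w' ≫ inv w, ?_⟩
  have hj : Mono ((Over.pullback c.v).map j) := hZ'.2.1
  rw [← cancel_mono ((Over.pullback c.v).map j), ← h', Category.assoc, ← h, Category.assoc,
    IsIso.inv_hom_id_assoc]

end K197.Rad
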