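import Groth.Agent.Sga3B.DSPts
import Groth.Agent.Sga3B.BorSpan613

/-!
# Exactness of `D_S`
* `exists_lift` : `N → M → P → 0` exact gives `D(P) = Ker (D(M) → D(N))` on points.
* `DSmap_eq_one`, `isKernel_DSmap`.
-/

set_option autoImplicit false
universe u

open CategoryTheory MonoidalCategory CartesianMonoidalCategory MonObj GrpObj AlgebraicGeometry Limits

namespace K197.DSExact

open Groth.Agent.Sga3B Groth.Agent.Sga3B.DSPts

variable {S : Scheme.{u}}

lemma DSmap_eq_one {M N : Type} [AddCommGroup M] [AddCommGroup N] (φ : M →+ N) (h : ∀ m, φ m = 0) :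
    Red.DSmap S φ = 1 := by
  rw [← Category.id_comp (Red.DSmap S φ)]
  apply (dsEquiv _ M).symm.injective
  change dsChar _ = dsChar _
  rw [dsChar_DSmap]
  have h1 : dsChar (1 : Red.DS S N ⟶ Red.DS S M) = 1 := by simp [dsChar]
  rw [h1]
  ext m
  simp [h]

lemma dsChar_one {X : Over S} {M : Type} [AddCommGroup M] : dsChar (1 : X ⟶ Red.DS S M) = 1 := by
  simp [dsChar]

lemma exists_lift {N M P : Type} [AddCommGroup N] [AddCommGroup M] [AddCommGroup P]
    (φ : N →+ M) (ψ : M →+ P) (hψ : Function.Surjective ψ) (hex : ∀ m, ψ m = 0 → ∃ n, φ n = m)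
    {X : Over S} (x : X ⟶ Red.DS S M) (hx : x ≫ Red.DSmap S φ = 1) :
    ∃ z : X ⟶ Red.DS S P, z ≫ Red.DSmap S ψ = x := by
  have h1 : (dsChar x).comp (AddMonoidHom.toMultiplicative φ) = 1 := by
    rw [← dsChar_DSmap, hx, dsChar_one]
  have hker : (AddMonoidHom.toMultiplicative ψ).ker ≤ (dsChar x).toHomUnits.ker := by
    intro m hm
    obtain ⟨n, hn⟩ := hex m.toAdd (by simpa using hm)
    rw [MonoidHom.mem_ker]
    ext
    rw [MonoidHom.coe_toHomUnits]
    have h2 := DFunLike.congr_fun h1 (Multiplicative.ofAdd n)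
    simp only [MonoidHom.comp_apply, MonoidHom.one_apply] at h2
    refine Eq.trans ?_ h2
    congr 1
    change m = Multiplicative.ofAdd (φ n)
    rw [hn]
    rfl
  obtain ⟨χ, hχ⟩ : ∃ χ : Multiplicative P →* (Γ(X.left, ⊤))ˣ,
      χ.comp (AddMonoidHom.toMultiplicative ψ) = (dsChar x).toHomUnits :=
    ⟨MonoidHom.liftOfSurjective _ hψ ⟨(dsChar x).toHomUnits, hker⟩,
      MonoidHom.liftOfRightInverse_comp _ _ _ _⟩
  refine ⟨dsEquiv X P ((Units.coeHom _).comp χ), ?_⟩
  rw [dsEquiv_DSmap, MonoidHom.comp_assoc, hχ]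
  refine Eq.trans ?_ (dsEquiv_dsChar x)
  congr 1

end K197.DSExact
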