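import Groth.Agent.SGA3x.K7.DSProp
import Groth.Agent.SGA3x.K7.Loc
import Groth.Agent.RedSub.K197.DSExact
import Groth.Agent.S0084

/-!
# Isogenies
* `IsIsog f` : `f` surjective, flat, finite; a property of morphisms stable under base change and
  composition, fppf local on the base.
* `isIsog_DSmap` : `D(φ)` is an isogeny for `φ : N → M` injective with torsion cokernel.
* `DSmap_mul`, `dsProd` : `D(A) × D(B) ≅ D(A × B)`.
-/

set_option autoImplicit false
universe u

open CategoryTheory MonoidalCategory CartesianMonoidalCategory MonObj GrpObj AlgebraicGeometry Limits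

namespace K197.Isog

open Groth.Agent.Sga3B Groth.Agent.Sga3B.DSPts

/-- surjective, flat and finite -/
abbrev IsIsog : MorphismProperty Scheme.{u} := @Surjective ⊓ @Flat ⊓ @IsFinite

lemma isIsog_iff {X Y : Scheme.{u}} (f : X ⟶ Y) :
    IsIsog f ↔ Surjective f ∧ Flat f ∧ IsFinite f :=
  ⟨fun h => ⟨h.1.1, h.1.2, h.2⟩, fun h => ⟨⟨h.1, h.2.1⟩, h.2.2⟩⟩

instance finite_descends : MorphismProperty.DescendsAlong @IsFinite
    (@Surjective ⊓ @Flat ⊓ @QuasiCompact : MorphismProperty Scheme.{u}) := Groth.Agent.S0084.result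

theorem flat_codescends : RingHom.CodescendsAlong (fun {A B : Type u} [CommRing A] [CommRing B] (f : A →+* B) => f.Flat)
    (fun {A B : Type u} [CommRing A] [CommRing B] (f : A →+* B) => f.FaithfullyFlat) := by
  refine RingHom.CodescendsAlong.mk _ RingHom.Flat.respectsIso ?_
  introv h
  intro H
  rw [RingHom.flat_algebraMap_iff] at *
  rw [RingHom.faithfullyFlat_algebraMap_iff] at h
  exact Module.Flat.of_flat_tensorProduct R T S

instance flat_descends : MorphismProperty.DescendsAlong @Flat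
    (@Surjective ⊓ @Flat ⊓ @QuasiCompact : MorphismProperty Scheme.{u}) :=
  HasRingHomProperty.descendsAlong_flat flat_codescends

instance isog_descends : IsIsog.{u}.DescendsAlong (@Surjective ⊓ @Flat ⊓ @QuasiCompact) :=
  inferInstance

lemma IsIsog.of_isIso {X Y : Scheme.{u}} (f : X ⟶ Y) [IsIso f] : IsIsog f :=
  (isIsog_iff f).2 ⟨inferInstance, inferInstance, inferInstance⟩

lemma IsIsog.of_isEmpty {X Y : Scheme.{u}} (f : X ⟶ Y) (h : IsEmpty Y) : IsIsog f := by
  have := isIso_of_isEmpty f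
  exact IsIsog.of_isIso f

lemma isIsog_of_isEmpty {S : Scheme.{u}} (hS : IsEmpty S) {X Y : Over S} (f : X ⟶ Y) :
    IsIsog f.left := IsIsog.of_isEmpty _ ⟨fun y => hS.elim (Y.hom y)⟩

lemma IsIsog.comp {X Y Z : Scheme.{u}} {f : X ⟶ Y} {g : Y ⟶ Z} (hf : IsIsog f) (hg : IsIsog g) :
    IsIsog (f ≫ g) := MorphismProperty.comp_mem _ _ _ hf hg

section alg

variable {R : Type*} [CommRing R] {N M : Type*} [CommGroup N] [CommGroup M] (φ : N →* M)

theorem finite_mapDomain [Group.FG M] (h : ∀ m : M, ∃ k : ℕ, 0 < k ∧ m ^ k ∈ φ.range) :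
    (MonoidAlgebra.mapDomainRingHom R φ).Finite := by
  algebraize [MonoidAlgebra.mapDomainRingHom R φ]
  have h1 : ∀ m : M, IsIntegral (MonoidAlgebra R N) (MonoidAlgebra.single m (1 : R)) := by
    intro m
    obtain ⟨k, hk, n, hn⟩ := h m
    refine IsIntegral.of_pow hk ?_
    have h2 : MonoidAlgebra.single m (1 : R) ^ k =
        algebraMap (MonoidAlgebra R N) (MonoidAlgebra R M) (MonoidAlgebra.single n 1) := by
      change _ = MonoidAlgebra.mapDomainRingHom R φ _
      rw [MonoidAlgebra.single_pow, one_pow, ← hn]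
      simp
    rw [h2]
    exact isIntegral_algebraMap
  have h3 : Algebra.IsIntegral (MonoidAlgebra R N) (MonoidAlgebra R M) := by
    refine ⟨fun x => ?_⟩
    induction x using MonoidAlgebra.induction_on with
    | of m => exact h1 m
    | add x y hx hy => exact hx.add hy
    | smul r x hx =>
      have h4 : r • x = algebraMap (MonoidAlgebra R N) (MonoidAlgebra R M)
          (MonoidAlgebra.single 1 r) * x := by
        change _ = MonoidAlgebra.mapDomainRingHom R φ _ * x
        simp only [MonoidAlgebra.mapDomainRingHom_apply, MonoidAlgebra.mapDomain_single, map_one]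
        rw [Algebra.smul_def]
        rfl
      rw [h4]
      exact isIntegral_algebraMap.mul hx
  have h5 : Algebra.FiniteType (MonoidAlgebra R N) (MonoidAlgebra R M) := by
    have h6 : IsScalarTower R (MonoidAlgebra R N) (MonoidAlgebra R M) := by
      refine IsScalarTower.of_algebraMap_eq fun r => ?_
      change _ = MonoidAlgebra.mapDomainRingHom R φ _
      simp
    exact Algebra.FiniteType.of_restrictScalars_finiteType R _ _
  exact Algebra.IsIntegral.finite

end alg

/-- `D(φ)` is finite if the cokernel of `φ` is finitely generated and torsion. -/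
theorem isFinite_DSmap (S : Scheme.{u}) {N M : Type} [AddCommGroup N] [AddCommGroup M]
    [Module.Finite ℤ M] (φ : N →+ M) (h : ∀ m : M, ∃ k : ℤ, k ≠ 0 ∧ k • m ∈ φ.range) :
    IsFinite (Red.DSmap S φ).left := by
  have hfg : Group.FG (Multiplicative M) := by
    have : AddGroup.FG M := (Module.Finite.iff_addGroup_fg).1 inferInstance
    infer_instance
  have h1 : (MonoidAlgebra.mapDomainRingHom (ULift.{u} ℤ) (AddMonoidHom.toMultiplicative φ)).Finite := by
    refine finite_mapDomain _ fun m => ?_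
    obtain ⟨k, hk, n, hn⟩ := h m.toAdd
    refine ⟨k.natAbs, Int.natAbs_pos.2 hk, ?_⟩
    have hz : m ^ k ∈ (AddMonoidHom.toMultiplicative φ).range := ⟨Multiplicative.ofAdd n, by
      rw [AddMonoidHom.toMultiplicative_apply_apply]
      exact congrArg Multiplicative.ofAdd hn⟩
    rcases Int.natAbs_eq k with hk' | hk'
    · rw [hk', zpow_natCast] at hz
      exact hz
    · rw [hk', zpow_neg, zpow_natCast] at hz
      simpa using hz
  have h2 : IsFinite (Spec.map (CommRingCat.ofHom
    (MonoidAlgebra.mapDomainRingHom (ULift.{u} ℤ) (AddMonoidHom.toMultiplicative φ)))) :=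
    (IsFinite.SpecMap_iff _).2 h1
  have h4 := K7.Loc.isPullback_map (Limits.IsTerminal.from specULiftZIsTerminal S) (Red.diagMap (ULift.{u} ℤ) φ)
  exact MorphismProperty.of_isPullback (P := @IsFinite) h4 h2

theorem isIsog_DSmap (S : Scheme.{u}) {N M : Type} [AddCommGroup N] [AddCommGroup M]
    [Module.Finite ℤ M] (φ : N →+ M) (hφ : Function.Injective φ)
    (h : ∀ m : M, ∃ k : ℤ, k ≠ 0 ∧ k • m ∈ φ.range) : IsIsog (Red.DSmap S φ).left :=
  (isIsog_iff _).2 ⟨(K7.DSProp.flat_surjective_DSmap S φ hφ).2, (K7.DSProp.flat_surjective_DSmap S φ hφ).1,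
    isFinite_DSmap S φ h⟩

/-- `D(φ) D(ψ) = D(φ + ψ)` -/
lemma DSmap_mul {S : Scheme.{u}} {N M : Type} [AddCommGroup N] [AddCommGroup M] (φ ψ : N →+ M) :
    Red.DSmap S φ * Red.DSmap S ψ = Red.DSmap S (φ + ψ) := by
  rw [← Category.id_comp (Red.DSmap S φ), ← Category.id_comp (Red.DSmap S ψ),
    ← Category.id_comp (Red.DSmap S (φ + ψ))]
  apply (dsEquiv _ N).symm.injective
  change dsChar _ = dsChar _
  rw [dsChar_mul, dsChar_DSmap, dsChar_DSmap, dsChar_DSmap]
  ext m
  simp

lemma mul_comp_DSmap {S : Scheme.{u}} {N M : Type} [AddCommGroup N] [AddCommGroup M] (φ : N →+ M)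
    {X : Over S} (x y : X ⟶ Red.DS S M) :
    (x * y) ≫ Red.DSmap S φ = (x ≫ Red.DSmap S φ) * (y ≫ Red.DSmap S φ) := by
  apply (dsEquiv _ N).symm.injective
  change dsChar _ = dsChar _
  rw [dsChar_mul, dsChar_DSmap, dsChar_DSmap, dsChar_DSmap, dsChar_mul]
  rfl

/-- `D(A × B) ≅ D(A) × D(B)` -/
noncomputable def dsProd (S : Scheme.{u}) (A B : Type) [AddCommGroup A] [AddCommGroup B] :
    Red.DS S (A × B) ≅ Red.DS S A ⊗ Red.DS S B where
  hom := lift (Red.DSmap S (AddMonoidHom.inl A B)) (Red.DSmap S (AddMonoidHom.inr A B))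
  inv := (fst _ _ ≫ Red.DSmap S (AddMonoidHom.fst A B)) * (snd _ _ ≫ Red.DSmap S (AddMonoidHom.snd A B))
  hom_inv_id := by
    rw [MonObj.comp_mul, lift_fst_assoc, lift_snd_assoc, BorSpan613.DSmap_comp_DSmap,
      BorSpan613.DSmap_comp_DSmap, DSmap_mul, ← BorSpan613.DSmap_id]
    congr 1
    ext m <;> simp
  inv_hom_id := by
    apply CartesianMonoidalCategory.hom_ext
    · rw [Category.assoc, lift_fst, Category.id_comp, mul_comp_DSmap, Category.assoc, Category.assoc,
        BorSpan613.DSmap_comp_DSmap, BorSpan613.DSmap_comp_DSmap]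
      have e1 : (AddMonoidHom.fst A B).comp (AddMonoidHom.inl A B) = AddMonoidHom.id A := by ext; simp
      have e2 : ∀ m, (AddMonoidHom.snd A B).comp (AddMonoidHom.inl A B) m = 0 := fun _ => rfl
      rw [e1, BorSpan613.DSmap_id, DSExact.DSmap_eq_one _ e2, MonObj.comp_one, _root_.mul_one,
        Category.comp_id]
    · rw [Category.assoc, lift_snd, Category.id_comp, mul_comp_DSmap, Category.assoc, Category.assoc,
        BorSpan613.DSmap_comp_DSmap, BorSpan613.DSmap_comp_DSmap]
      have e1 : (AddMonoidHom.snd A B).comp (AddMonoidHom.inr A B) = AddMonoidHom.id B := by ext; simp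
      have e2 : ∀ m, (AddMonoidHom.fst A B).comp (AddMonoidHom.inr A B) m = 0 := fun _ => rfl
      rw [e1, BorSpan613.DSmap_id, DSExact.DSmap_eq_one _ e2, MonObj.comp_one, _root_.one_mul,
        Category.comp_id]

end K197.Isog
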