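import Groth.Agent.SGA3x.K7.DSProp
import Groth.Agent.SGA3x.K7.Loc
import Groth.Agent.SGA3x.K14.FpqcExt
import Groth.Agent.Sga3B.TorusEtSplit
import Groth.Agent.Sga3B.BorLoc613
import Groth.Agent.RedSub.K197.DSExact

/-!
# Homomorphisms from tori to diagonalizable groups
* `comp_eq_one_of_torsion` : a homomorphism `T ⟶ D(M)` from a torus which kills the subgroup `Q` of `M`
  kills the saturation of `Q`.
-/

set_option autoImplicit false
universe u

open CategoryTheory MonoidalCategory CartesianMonoidalCategory MonObj GrpObj AlgebraicGeometry Limits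

namespace K197.TorChart

open Groth.Agent.Sga3B Groth.Agent.Sga3B.DSPts

variable {S : Scheme.{u}}

lemma pullback_map_one {S' : Scheme.{u}} (v : S' ⟶ S) (X : Over S) (G : Over S) [GrpObj G] :
    (Over.pullback v).map (1 : X ⟶ G) = 1 := Functor.map_one _

lemma one_comp_iso {X A B : Over S} [GrpObj A] [GrpObj B] (e : Grp.mk A ≅ Grp.mk B) :
    (1 : X ⟶ A) ≫ e.hom.hom.hom = 1 := MonObj.one_comp _

lemma isMonHom_DSmap (S : Scheme.{u}) {M N : Type} [AddCommGroup M] [AddCommGroup N]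
    (φ : N →+ M) : IsMonHom (Red.DSmap S φ) := BorSpan613.isMonHom_DSmap S _

/-- `D(φ) = D(ψ)` over one nonempty base implies `φ = ψ` -/
lemma eq_of_map_eq {M N : Type} [AddCommGroup M] [AddCommGroup N] (φ ψ : N →+ M)
    {R : CommRingCat.{u}} (v : Spec R ⟶ S) [Nontrivial R]
    (h : (Over.pullback v).map (Red.DSmap S φ) = (Over.pullback v).map (Red.DSmap S ψ)) : φ = ψ := by
  have h1 := BorLoc613.dsBcIso_naturality v φ
  rw [h, BorLoc613.dsBcIso_naturality v ψ] at h1
  have h2 : IsIso (TorusAlgClosed.dsBcIso v M).hom.hom.hom :=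
    inferInstanceAs (IsIso ((Grp.forget _).map (TorusAlgClosed.dsBcIso v M).hom))
  rw [cancel_epi] at h1
  exact (K7.DSProp.DSmap_injective h1).symm

lemma nontrivial_of_spec {R : CommRingCat.{u}} (b : Spec R) : Nontrivial R := by
  by_contra hn
  rw [not_nontrivial_iff_subsingleton] at hn
  exact b.2.1 (Subsingleton.elim _ _)

theorem comp_eq_one_split {M' : Type} [AddCommGroup M'] [Module.IsTorsionFree ℤ M'] {M : Type}
    [AddCommGroup M] [Module.Finite ℤ M] (t : Red.DS S M' ⟶ Red.DS S M) [IsMonHom t]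
    (Q P : AddSubgroup M) (hQP : ∀ p ∈ P, ∃ k : ℤ, k ≠ 0 ∧ k • p ∈ Q)
    (h : t ≫ Red.DSmap S Q.subtype = 1) : t ≫ Red.DSmap S P.subtype = 1 := by
  refine K14.FpqcExt.eq_of_flat_cover _ _ fun s => ?_
  obtain ⟨R, v, φ, hv, ⟨b, hb⟩, h1, -⟩ := BorLoc613.exists_spec_hom t s
  refine ⟨Spec R, v, inferInstance, ⟨b, hb⟩, ?_⟩
  have hR : Nontrivial R := nontrivial_of_spec b
  have h2 : (Over.pullback v).map (Red.DSmap S (φ.comp Q.subtype)) =
      (Over.pullback v).map (Red.DSmap S 0) := by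
    rw [← BorSpan613.DSmap_comp_DSmap, Functor.map_comp, ← h1, ← Functor.map_comp, h,
      DSExact.DSmap_eq_one 0 (fun _ => rfl)]
  have h3 := eq_of_map_eq _ _ v h2
  have h4 : φ.comp P.subtype = 0 := by
    ext ⟨p, hp⟩
    obtain ⟨k, hk, hkp⟩ := hQP p hp
    have h5 := DFunLike.congr_fun h3 ⟨_, hkp⟩
    change φ (k • p) = 0 at h5
    rw [map_zsmul] at h5
    exact (smul_eq_zero_iff_right hk).1 h5
  rw [Functor.map_comp, h1, ← Functor.map_comp, BorSpan613.DSmap_comp_DSmap, h4,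
    DSExact.DSmap_eq_one 0 (fun _ => rfl)]

/-- a homomorphism `T ⟶ D(M)` from a torus which kills `Q` kills the saturation of `Q` -/
theorem comp_eq_one_of_torsion {T : Over S} [GrpObj T] (hT : Red.IsTorus T) {M : Type}
    [AddCommGroup M] [Module.Finite ℤ M] (t : T ⟶ Red.DS S M) [IsMonHom t]
    (Q P : AddSubgroup M) (hQP : ∀ p ∈ P, ∃ k : ℤ, k ≠ 0 ∧ k • p ∈ Q)
    (h : t ≫ Red.DSmap S Q.subtype = 1) : t ≫ Red.DSmap S P.subtype = 1 := by
  refine K14.FpqcExt.eq_of_flat_cover _ _ fun s => ?_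
  obtain ⟨B, _, v, r, hv, ⟨b, hb⟩, ⟨e⟩⟩ := TorusEtSplit.exists_etale_split T hT s
  refine ⟨Spec (.of B), v, inferInstance, ⟨b, hb⟩, ?_⟩
  let f : Red.DS (Spec (CommRingCat.of B)) (Fin r → ℤ) ⟶ Red.DS (Spec (CommRingCat.of B)) M :=
    e.inv.hom.hom ≫ (Over.pullback v).map t ≫ (TorusAlgClosed.dsBcIso v M).hom.hom.hom
  have hf : IsMonHom f := inferInstance
  have hnat : ∀ Q : AddSubgroup M, (Over.pullback v).map t ≫
      (TorusAlgClosed.dsBcIso v M).hom.hom.hom ≫ Red.DSmap _ Q.subtype =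
      (Over.pullback v).map (t ≫ Red.DSmap S Q.subtype) ≫
        (TorusAlgClosed.dsBcIso v Q).hom.hom.hom := by
    intro Q
    rw [← BorLoc613.dsBcIso_naturality, Functor.map_comp, Category.assoc]
  have h1 : f ≫ Red.DSmap _ Q.subtype = 1 := by
    change (e.inv.hom.hom ≫ (Over.pullback v).map t ≫
      (TorusAlgClosed.dsBcIso v M).hom.hom.hom) ≫ Red.DSmap _ Q.subtype = 1
    rw [Category.assoc, Category.assoc, hnat, h, pullback_map_one, one_comp_iso, MonObj.comp_one]
  have h2 := comp_eq_one_split f Q P hQP h1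
  change (e.inv.hom.hom ≫ (Over.pullback v).map t ≫
      (TorusAlgClosed.dsBcIso v M).hom.hom.hom) ≫ Red.DSmap _ P.subtype = 1 at h2
  rw [Category.assoc, Category.assoc, hnat] at h2
  have h3 : IsIso e.inv.hom.hom := inferInstanceAs (IsIso ((Grp.forget _).map e.inv))
  have h4 : IsIso (TorusAlgClosed.dsBcIso v P).hom.hom.hom :=
    inferInstanceAs (IsIso ((Grp.forget _).map (TorusAlgClosed.dsBcIso v P).hom))
  rw [← cancel_mono (TorusAlgClosed.dsBcIso v P).hom.hom.hom, ← cancel_epi e.inv.hom.hom, h2,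
    pullback_map_one, one_comp_iso, MonObj.comp_one]

end K197.TorChart
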