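import Groth.Agent.RedSub.K197.RadLat
import Groth.Agent.RedSub.K197.TorChart
import Groth.Agent.RedSub.K197.Isog
import Groth.Agent.S2962

/-!
# The radical of a split reductive group
`rad_iso`: `D : SplitRed G`, `j : Z ⟶ G` the centre, `r : R ⟶ Z` a maximal torus of the centre.
Then `R ≅ D_S(M / P)`, `P` the saturated root lattice.
-/

set_option autoImplicit false
universe u

open CategoryTheory MonoidalCategory CartesianMonoidalCategory MonObj GrpObj AlgebraicGeometry Limits

namespace K197.RadSplit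

open Groth.Agent.Sga3B Groth.Agent.Sga3B.DSPts RadLat

variable {S : Scheme.{u}}

/-- `D_S(M)` is a torus for `M` free of finite type -/
lemma isTorus_DS (S : Scheme.{u}) (M : Type) [AddCommGroup M] [Module.Free ℤ M] [Module.Finite ℤ M] :
    Red.IsTorus (Red.DS S M) := by
  obtain ⟨E, -⟩ := BorSpan613.exists_iso_DS S
    ((Module.finBasis ℤ M).equivFun.symm.toAddEquiv)
  exact BorSpan613.isTorus_of_isSplitTorusWith ⟨E⟩

lemma isMonHom_of_comp {A B C : Over S} [GrpObj A] [GrpObj B] [GrpObj C] (g : A ⟶ B) (j : B ⟶ C)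
    [IsMonHom j] [Mono j] (h : IsMonHom (g ≫ j)) : IsMonHom g where
  one_hom := by
    rw [← cancel_mono j, Category.assoc, IsMonHom.one_hom (f := g ≫ j), IsMonHom.one_hom]
  mul_hom := by
    rw [← cancel_mono j, Category.assoc, IsMonHom.mul_hom (f := g ≫ j), Category.assoc,
      IsMonHom.mul_hom (f := j)]
    simp

/-- a mono from a maximal torus `R` of `Z` to a torus `T'` of `Z` is an isomorphism -/
theorem isIso_of_max {Z R T' : Over S} [GrpObj Z] [GrpObj R] [GrpObj T'] (r : R ⟶ Z)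
    (hR : Red.IsMaximalTorus r) (hT' : Red.IsTorus T') (w : R ⟶ T') (t : T' ⟶ Z) [IsMonHom t] [Mono t]
    (h : w ≫ t = r) : IsIso w := by
  have h1 := hR.1
  have h2 := hR.2.1
  have h3 : IsMonHom w := isMonHom_of_comp w t (h.symm ▸ h1)
  have h4 : Mono w := by
    have : Mono (w ≫ t) := h.symm ▸ h2
    exact mono_of_mono w t
  refine TorusEtSplit.isIso_of_isMaximalTorus hT' w ⟨h3, h4, hR.2.2.1, ?_⟩
  intro s T'' _ j _ _ f hT'' hf
  refine hR.2.2.2 s T'' (j ≫ (Over.pullback (Red.geomPt s)).map t) f hT'' ?_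
  rw [← Category.assoc, hf, ← Functor.map_comp, h]

variable {G Z R : Over S} [GrpObj G] [GrpObj Z] [GrpObj R]

lemma central_of_isCentre {j : Z ⟶ G} (hZ : Red.IsCentre j) {X : Over S} (z : X ⟶ Z) (X' : Over S)
    (x : X' ⟶ X) (h : X' ⟶ G) : (x ≫ z ≫ j) * h = h * (x ≫ z ≫ j) := by
  have := (hZ.2.2 X (z ≫ j)).1 ⟨z, rfl⟩ X' x h
  rwa [Category.comp_id] at this

/-- the inclusion of the radical of a split group -/
noncomputable def radI (D : Red.SplitRed G) : Red.DS S (D.M ⧸ PP D.P) ⟶ G :=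
  Red.DSmap S (QuotientAddGroup.mk' (PP D.P)) ≫ D.split.inv.hom.hom ≫ D.i

lemma mono_radI (D : Red.SplitRed G) : Mono (radI D) := by
  have h1 := BorSpan613.mono_DSmap S (QuotientAddGroup.mk' (PP D.P)) (QuotientAddGroup.mk'_surjective _)
  have h2 : IsIso D.split.inv.hom.hom := inferInstanceAs (IsIso ((Grp.forget _).map D.split.inv))
  have h3 : Mono D.i := D.maximalTorus.2.1
  rw [radI]
  infer_instance

lemma isMonHom_radI (D : Red.SplitRed G) : IsMonHom (radI D) := by
  have h1 := BorSpan613.isMonHom_DSmap S (QuotientAddGroup.mk' (PP D.P))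
  have h3 : IsMonHom D.i := D.maximalTorus.1
  rw [radI]
  infer_instance

section lattice

variable {M : Type} [AddCommGroup M] {X : Over S} (t : X ⟶ Red.DS S M)

lemma comp_chi_eq_one_iff (m : M) : t ≫ Red.chi S m = 1 ↔ dsChar t (Multiplicative.ofAdd m) = 1 := by
  have h0 : t ≫ Red.chi S m = 1 ↔ dsChar (t ≫ Red.chi S m) = 1 := by
    constructor
    · intro h
      rw [h, DSExact.dsChar_one]
    · intro h
      apply (dsEquiv _ ℤ).symm.injective
      change dsChar _ = dsChar _
      rw [h, DSExact.dsChar_one]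
  rw [h0, Red.chi, dsChar_DSmap]
  constructor
  · intro h
    have h1 := DFunLike.congr_fun h (Multiplicative.ofAdd 1)
    simpa using h1
  · intro h
    ext
    simpa using h

lemma comp_sub_eq_one_iff (N : AddSubgroup M) : t ≫ Red.DSmap S N.subtype = 1 ↔
    ∀ m ∈ N, dsChar t (Multiplicative.ofAdd m) = 1 := by
  constructor
  · intro h m hm
    have h1 : dsChar (t ≫ Red.DSmap S N.subtype) = 1 := by rw [h, DSExact.dsChar_one]
    rw [dsChar_DSmap] at h1
    exact DFunLike.congr_fun h1 (Multiplicative.ofAdd ⟨m, hm⟩)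
  · intro h
    apply (dsEquiv _ N).symm.injective
    change dsChar _ = dsChar _
    rw [DSExact.dsChar_one, dsChar_DSmap]
    ext m
    exact h _ (Multiplicative.toAdd m).2

lemma comp_QQ_eq_one_iff {idx : Type} (P : RootPairing idx ℤ M (Module.Dual ℤ M)) :
    t ≫ Red.DSmap S (QQ P).subtype = 1 ↔ ∀ a : idx, t ≫ Red.chi S (P.root a) = 1 := by
  rw [comp_sub_eq_one_iff]
  constructor
  · intro h a
    rw [comp_chi_eq_one_iff]
    exact h _ (Submodule.subset_span ⟨a, rfl⟩)
  · intro h m hm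
    refine Submodule.span_induction (p := fun m _ => dsChar t (Multiplicative.ofAdd m) = 1)
      ?_ ?_ ?_ ?_ hm
    · rintro _ ⟨a, rfl⟩
      rw [← comp_chi_eq_one_iff]
      exact h a
    · simp
    · intro x y _ _ hx hy
      rw [ofAdd_add, map_mul, hx, hy, _root_.one_mul]
    · intro k x _ hx
      have hu : ∀ n : ℕ, dsChar t (Multiplicative.ofAdd ((n : ℤ) • x)) = 1 := by
        intro n
        rw [natCast_zsmul, ofAdd_nsmul, map_pow, hx, one_pow]
      rcases Int.eq_nat_or_neg k with ⟨n, rfl | rfl⟩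
      · exact hu n
      · have h2 : dsChar t (Multiplicative.ofAdd ((-(n : ℤ)) • x)) *
            dsChar t (Multiplicative.ofAdd ((n : ℤ) • x)) = 1 := by
          rw [← map_mul, ← ofAdd_add, neg_smul, neg_add_cancel, ofAdd_zero, map_one]
        rwa [hu, _root_.mul_one] at h2

end lattice

section main

variable (D : Red.SplitRed G) (j : Z ⟶ G) (hZ : Red.IsCentre j)

include hZ

/-- `D_S(M / P)` is central -/
lemma exists_toCentre : ∃ t : Red.DS S (D.M ⧸ PP D.P) ⟶ Z, t ≫ j = radI D := by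
  refine (hZ.2.2 _ _).2 fun X' x h => ?_
  have h1 := (Groth.Agent.S2962.result D (Red.DS S (D.M ⧸ PP D.P)) (radI D)).2
    ⟨Red.DSmap S (QuotientAddGroup.mk' (PP D.P)) ≫ D.split.inv.hom.hom, by
      rw [radI, Category.assoc], ?_⟩ X' x h
  · rwa [Category.comp_id]
  · have h5 : D.split.inv.hom.hom ≫ D.split.hom.hom.hom = 𝟙 _ :=
      congrArg (fun f => f.hom.hom) D.split.inv_hom_id
    intro a
    rw [Category.assoc, reassoc_of% h5]
    refine (comp_QQ_eq_one_iff _ D.P).1 ?_ a
    rw [BorSpan613.DSmap_comp_DSmap]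
    refine DSExact.DSmap_eq_one _ fun m => ?_
    exact (QuotientAddGroup.eq_zero_iff _).2 (QQ_le_PP D.P m.2)

/-- a central torus point is a point of `D_S(M / P)` -/
lemma exists_lift_of_torus {R : Over S} [GrpObj R] (hR : Red.IsTorus R) (r : R ⟶ Z) [IsMonHom r] :
    ∃ w : R ⟶ Red.DS S (D.M ⧸ PP D.P), w ≫ radI D = r ≫ j := by
  have hj : IsMonHom j := hZ.1
  obtain ⟨t, ht, hta⟩ := (Groth.Agent.S2962.result D R (r ≫ j)).1
    (fun X' x h => by
      have := central_of_isCentre hZ (x ≫ r) X' (𝟙 _) h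
      simpa using this)
  have hi : IsMonHom D.i := D.maximalTorus.1
  have hm : Mono D.i := D.maximalTorus.2.1
  have htm : IsMonHom t := by
    have h1 : IsMonHom (r ≫ j) := inferInstance
    rw [← ht] at h1
    exact isMonHom_of_comp t D.i h1
  have h1 : (t ≫ D.split.hom.hom.hom) ≫ Red.DSmap S (QQ D.P).subtype = 1 := by
    rw [comp_QQ_eq_one_iff]
    intro a
    rw [Category.assoc]
    exact hta a
  have h2 := TorChart.comp_eq_one_of_torsion hR (t ≫ D.split.hom.hom.hom) (QQ D.P) (PP D.P)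
    (fun p hp => hp) h1
  obtain ⟨w, hw⟩ := DSExact.exists_lift (PP D.P).subtype (QuotientAddGroup.mk' (PP D.P))
    (QuotientAddGroup.mk'_surjective _)
    (fun m hm => ⟨⟨m, (QuotientAddGroup.eq_zero_iff m).1 hm⟩, rfl⟩) _ h2
  refine ⟨w, ?_⟩
  have h6 : D.split.hom.hom.hom ≫ D.split.inv.hom.hom = 𝟙 _ :=
    congrArg (fun f => f.hom.hom) D.split.hom_inv_id
  rw [radI, reassoc_of% hw, reassoc_of% h6, ht]

/-- **The radical of a split reductive group is `D_S(M / P)`**, `P` the saturated root lattice. -/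
theorem rad_iso (r : R ⟶ Z) (hR : Red.IsMaximalTorus r) :
    ∃ w : R ⟶ Red.DS S (D.M ⧸ PP D.P), IsIso w ∧ IsMonHom w ∧ w ≫ radI D = r ≫ j := by
  have hr := hR.1
  have hj : IsMonHom j := hZ.1
  have hjm : Mono j := hZ.2.1
  obtain ⟨w, hw⟩ := exists_lift_of_torus D j hZ hR.2.2.1 r
  obtain ⟨t, ht⟩ := exists_toCentre D j hZ
  have h1 := isMonHom_radI D
  have h2 := mono_radI D
  have htm : IsMonHom t := by
    rw [← ht] at h1
    exact isMonHom_of_comp t j h1
  have htn : Mono t := by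
    have : Mono (t ≫ j) := ht.symm ▸ h2
    exact mono_of_mono t j
  have hwt : w ≫ t = r := by
    rw [← cancel_mono j, Category.assoc, ht, hw]
  refine ⟨w, isIso_of_max r hR (isTorus_DS S _) w t hwt, ?_, hw⟩
  have : IsMonHom (w ≫ t) := hwt.symm ▸ hr
  exact isMonHom_of_comp w t this

end main

end K197.RadSplit
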