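import Groth.Agent.RedSub.H654.Coradical
import Groth.Agent.Sga3B.IsoFam
import Groth.Prelude.Def_RedSub

/-!
# Kernels of homomorphisms with a section which is a homomorphism
-/

set_option autoImplicit false
set_option linter.unusedSectionVars false
universe u

open CategoryTheory MonoidalCategory CartesianMonoidalCategory MonObj GrpObj AlgebraicGeometry Limits

namespace K197.SecKer

variable {S : Scheme.{u}} {G C K : Over S} [GrpObj G] [GrpObj C]

lemma mono_of_isKernel {k : K ⟶ G} {f : G ⟶ C} (hk : AlgGrp.IsKernel k f) : Mono k :=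
  ⟨fun _ _ h => hk.hom_ext h (toUnit_unique _ _)⟩

lemma comp_eq_one_of_isKernel {k : K ⟶ G} {f : G ⟶ C} (hk : AlgGrp.IsKernel k f) : k ≫ f = 1 := hk.w

lemma exists_lift_of_isKernel {k : K ⟶ G} {f : G ⟶ C} (hk : AlgGrp.IsKernel k f) {X : Over S}
    (x : X ⟶ G) (hx : x ≫ f = 1) : ∃ y : X ⟶ K, y ≫ k = x := by
  obtain ⟨r, hr, -⟩ := hk.exists_lift x (toUnit X) (by rw [hx]; rfl)
  exact ⟨r, hr⟩

lemma smooth_ker {k : K ⟶ G} {f : G ⟶ C} (hk : AlgGrp.IsKernel k f) (hf : Smooth f.left) :
    Smooth K.hom := by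
  have h1 := hk.map (Over.forget S)
  have h2 : Smooth (toUnit K).left := MorphismProperty.of_isPullback (P := @Smooth) h1 hf
  exact h2

section sec

variable (f : G ⟶ C) [IsMonHom f] (σ : C ⟶ G) [IsMonHom σ] (hσ : σ ≫ f = 𝟙 C)
  {k : K ⟶ G} (hk : AlgGrp.IsKernel k f)

include hσ hk in
/-- the retraction on the kernel -/
theorem exists_retr : ∃ r : G ⟶ K, r ≫ k = 𝟙 G * (f ≫ σ)⁻¹ ∧ k ≫ r = 𝟙 _ := by
  have h1 : (𝟙 G * (f ≫ σ)⁻¹) ≫ f = 1 := by
    rw [MonObj.mul_comp, GrpObj.inv_comp, Category.assoc, hσ, Category.comp_id, Category.id_comp,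
      mul_inv_cancel]
  obtain ⟨r, hr⟩ := exists_lift_of_isKernel hk _ h1
  have hm := mono_of_isKernel hk
  have h2 : k ≫ f = 1 := comp_eq_one_of_isKernel hk
  refine ⟨r, hr, ?_⟩
  rw [← cancel_mono k, Category.assoc, hr, MonObj.comp_mul, GrpObj.comp_inv,
    ← Category.assoc, h2, MonObj.one_comp, inv_one, _root_.mul_one, Category.comp_id,
    Category.id_comp]

include hσ hk in
theorem connected_ker (hG : Red.IsReductive G) : RedSub.HasConnectedFibres K := by
  obtain ⟨r, hr, hkr⟩ := exists_retr f σ hσ hk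
  intro s
  have hG := Groth.Agent.Sga3B.IsoFam.isConnected_fibre_of_isReductive hG s
  have h3 : K.hom.base ⁻¹' {s} = r.left.base '' (G.hom.base ⁻¹' {s}) := by
    ext x
    constructor
    · intro hx
      refine ⟨k.left.base x, ?_, ?_⟩
      · change G.hom (k.left x) = s
        rw [← Scheme.Hom.comp_apply, Over.w]
        exact hx
      · change r.left (k.left x) = x
        rw [← Scheme.Hom.comp_apply, ← Over.comp_left, hkr]
        rfl
    · rintro ⟨y, hy, rfl⟩
      change K.hom (r.left y) = s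
      rw [← Scheme.Hom.comp_apply, Over.w]
      exact hy
  rw [h3]
  exact hG.image _ r.left.continuous.continuousOn

include hσ hk in
theorem main (hG : Red.IsReductive G) (hC : IsAffineHom C.hom) :
    Smooth K.hom ∧ RedSub.HasConnectedFibres K := by
  have haff : IsAffineHom G.hom := hG.1
  have hsm : Smooth G.hom := hG.2.1
  exact ⟨smooth_ker hk (Groth.Agent.RedSub.H654.Coradical.smooth_of_section f σ hσ),
    connected_ker f σ hσ hk hG⟩

end sec

end K197.SecKer
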