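import Groth.Agent.RedSub.K197.QuotPts
import Groth.Agent.RedSub.K197.RadSplit
import Groth.Agent.RedSub.K197.LocP
import Groth.Agent.RedSub.K197.SecKer
import Groth.Agent.RedSub.H654.Coradical
import Groth.Agent.Sga3B.MaxTorNear900

/-!
# The pinned coradical `(C, f₀, D, d)` and its local form
* `exists_factor` : homomorphisms factor through fppf quotients.
* `corad_iso` : a pinned coradical `f₀ : G ⟶ C` is isomorphic to the one of `exists_LQ`.
* `isKernel_of` : a pinned derived group `d : D ⟶ G` is the kernel of `q`, `LQ q`.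
* `isog_rad` : `rad(G) ⟶ corad(G)` is an isogeny.
-/

set_option autoImplicit false
set_option linter.unusedSectionVars false
universe u

open CategoryTheory MonoidalCategory CartesianMonoidalCategory MonObj GrpObj AlgebraicGeometry Limits

namespace K197.Corad

open Groth.Agent.Sga3B Groth.Agent.Sga3B.DSPts RadLat Groth.Agent.Sga3B.PinMod Groth.Agent.Sga3B.PinFinal
open Groth.Agent.RedSub.H654 Groth.Agent.RedSub.H654.Coradical Groth.Agent.RedSub.H654.LocChart
open Groth.Agent.RedSub.H654.UnivPt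

variable {S : Scheme.{u}} {G : Over S} [GrpObj G]

lemma isKernel_of_pts {K Q : Over S} [GrpObj Q] {i : K ⟶ G} {q : G ⟶ Q} [Mono i] (h1 : i ≫ q = 1)
    (h2 : ∀ (X : Over S) (x : X ⟶ G), x ≫ q = 1 → ∃ y : X ⟶ K, y ≫ i = x) : AlgGrp.IsKernel i q :=
  QuotPts.isPullback_of_pts h1 (fun T x y hxy => by
    obtain ⟨a, ha⟩ := h2 T x (by
      rw [hxy, toUnit_unique y (toUnit T)]
      rfl)
    exact ⟨a, ha, toUnit_unique _ _⟩) (fun T a a' h _ => (cancel_mono i).1 h)

theorem exists_factor {H Q A : Over S} [GrpObj H] [GrpObj A] {i : H ⟶ G} {q : G ⟶ Q}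
    (hq : RedSub.IsQuotient i q) (f : G ⟶ A) [IsMonHom f] (h : i ≫ f = 1) :
    ∃ f' : Q ⟶ A, q ≫ f' = f := by
  refine Fppf.exists_desc (QuotPts.isCov hq) f fun T a b hab => ?_
  obtain ⟨x, hx⟩ := QuotPts.exists_of_eq hq a b hab
  rw [hx, MonObj.mul_comp, Category.assoc, h, MonObj.comp_one, _root_.mul_one]

variable {C₁ : Over S} [GrpObj C₁] {q : G ⟶ C₁} [IsMonHom q]

lemma comm_of_LQ (L : LQ q) (X : Over S) (x y : X ⟶ C₁) : x * y = y * x :=
  MaxTorNear900.mul_comm_of_isTorus L.isTorus X x y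

lemma epi_of_LQ (hG : Red.IsReductive G) (L : LQ q) : Epi q := by
  have hsm := L.smooth hG
  have hsur := L.surjective
  have h1 : Epi ((Over.forget S).map q) := by
    change Epi q.left
    exact Flat.epi_of_flat_of_surjective _
  exact (Over.forget S).epi_of_epi_map h1

/-- a pinned coradical is the coradical -/
theorem corad_iso (hG : Red.IsReductive G) (L : LQ q) {D C : Over S} [GrpObj D] [GrpObj C] {d : D ⟶ G}
    [IsMonHom d] {f₀ : G ⟶ C} [IsMonHom f₀] (hC : ∀ (X : Over S) (a b : X ⟶ C), a * b = b * a)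
    (hquot : RedSub.IsQuotient d f₀) (hkill : RedSub.KilledByCommutative d) :
    ∃ e : C ≅ C₁, f₀ ≫ e.hom = q := by
  obtain ⟨e₁, h1⟩ := exists_factor hquot q (hkill C₁ q (comm_of_LQ L))
  obtain ⟨e₂, h2, -⟩ := L.existsUnique hG C hC f₀
  have h3 : Epi f₀ := Fppf.epi (QuotPts.isCov hquot)
  have h4 := epi_of_LQ hG L
  refine ⟨⟨e₁, e₂, ?_, ?_⟩, h1⟩
  · rw [← cancel_epi f₀, reassoc_of% h1, h2, Category.comp_id]
  · rw [← cancel_epi q, reassoc_of% h2, h1, Category.comp_id]

/-- a pinned derived group is the kernel of `q` -/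
theorem isKernel_of (L : LQ q) {D C : Over S} [GrpObj D] [GrpObj C] {d : D ⟶ G}
    [IsMonHom d] {f₀ : G ⟶ C} [IsMonHom f₀] (hC : ∀ (X : Over S) (a b : X ⟶ C), a * b = b * a)
    (hker : AlgGrp.IsKernel d f₀) (hkill : RedSub.KilledByCommutative d) : AlgGrp.IsKernel d q := by
  have hd := SecKer.mono_of_isKernel hker
  refine isKernel_of_pts (hkill C₁ q (comm_of_LQ L)) fun X x hx => ?_
  exact SecKer.exists_lift_of_isKernel hker x (L.kill C hC f₀ x hx)

/-- **`rad(G) ⟶ corad(G)` is an isogeny** -/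
theorem isog_rad_LQ (L : LQ q) {Z R : Over S} [GrpObj Z] [GrpObj R]
    {j : Z ⟶ G} (hZ : Red.IsCentre j) {r : R ⟶ Z} (hR : Red.IsMaximalTorus r) :
    Isog.IsIsog (r ≫ j ≫ q).left := by
  refine LocP.of_locally _ _ fun s => ⟨_, (L.c s).v, inferInstance, inferInstance, L.hc s, ?_⟩
  let D := (L.c s).D.toSplitRed
  have hne : Nonempty (Spec (L.c s).B) := by
    obtain ⟨b, -⟩ := L.hc s
    exact ⟨b⟩
  have hred : D.P.IsReduced := SplitReduced415.isReduced D
  obtain ⟨w, hw, hwm, h⟩ := RadSplit.rad_iso D ((Over.pullback (L.c s).v).map j)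
    (LocP.isCentre_bc _ hZ) ((Over.pullback (L.c s).v).map r) (AlgBc.isMaximalTorus_bc _ hR)
  have h1 : (Over.pullback (L.c s).v).map (r ≫ j ≫ q) =
      w ≫ Red.DSmap _ ((QuotientAddGroup.mk' (PP D.P)).comp (nu (L.c s).D.base)) ≫ (L.e s).inv := by
    rw [Functor.map_comp, Functor.map_comp, L.map_q, ← Category.assoc, ← h, RadSplit.radI]
    simp only [Category.assoc]
    have h2 := (L.c s).hqj
    rw [jOf, Category.assoc] at h2
    rw [← BorSpan613.DSmap_comp_DSmap, Category.assoc, ← h2]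
    simp only [Category.assoc]
    rfl
  rw [h1, Over.comp_left, Over.comp_left]
  have h3 : IsIso w.left := inferInstanceAs (IsIso ((Over.forget _).map w))
  have h4 : IsIso (L.e s).inv.left := inferInstanceAs (IsIso ((Over.forget _).map (L.e s).inv))
  refine (Isog.IsIsog.of_isIso _).comp (Isog.IsIsog.comp ?_ (Isog.IsIsog.of_isIso _))
  have hN : ∀ m : D.M, m ∈ (NN (L.c s).D.base).toAddSubgroup ↔ ∀ a : D.idx, D.P.coroot a m = 0 :=
    fun m => ⟨fun hm a => RootNN.coroot_eq_zero hm a, fun hm a _ => hm a⟩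
  exact Isog.isIsog_DSmap _ _ (injective_N (NN (L.c s).D.base).toAddSubgroup hN D.pairing_eq)
    (torsion_N (NN (L.c s).D.base).toAddSubgroup hN D.pairing_eq)

/-- **`rad(G) ⟶ corad(G)` is an isogeny**, `corad(G)` pinned -/
theorem isog_rad (hG : Red.IsReductive G) {D C : Over S} [GrpObj D] [GrpObj C] {d : D ⟶ G}
    [IsMonHom d] {f₀ : G ⟶ C} [IsMonHom f₀] (hC : ∀ (X : Over S) (a b : X ⟶ C), a * b = b * a)
    (hquot : RedSub.IsQuotient d f₀) (hkill : RedSub.KilledByCommutative d)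
    {Z R : Over S} [GrpObj Z] [GrpObj R]
    {j : Z ⟶ G} (hZ : Red.IsCentre j) {r : R ⟶ Z} (hR : Red.IsMaximalTorus r) :
    Isog.IsIsog (r ≫ j ≫ f₀).left := by
  obtain ⟨C₁, _, q, hq, ⟨L⟩⟩ := exists_LQ hG
  obtain ⟨e, he⟩ := corad_iso hG L hC hquot hkill
  have h1 := isog_rad_LQ L hZ hR
  have h2 : r ≫ j ≫ f₀ = (r ≫ j ≫ q) ≫ e.inv := by
    rw [← he]
    simp
  rw [h2, Over.comp_left]
  have h4 : IsIso e.inv.left := inferInstanceAs (IsIso ((Over.forget _).map e.inv))
  exact h1.comp (Isog.IsIsog.of_isIso _)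

/-- `rad(G) ⟶ corad(G)` is locally of finite presentation -/
theorem lfp_rad (hG : Red.IsReductive G) {D C : Over S} [GrpObj D] [GrpObj C] {d : D ⟶ G}
    [IsMonHom d] {f₀ : G ⟶ C} [IsMonHom f₀] (hC : ∀ (X : Over S) (a b : X ⟶ C), a * b = b * a)
    (hquot : RedSub.IsQuotient d f₀) (hkill : RedSub.KilledByCommutative d)
    {R : Over S} [GrpObj R] (hR : Red.IsTorus R) (r : R ⟶ C) :
    LocallyOfFinitePresentation r.left := by
  obtain ⟨C₁, _, q, hq, ⟨L⟩⟩ := exists_LQ hG
  obtain ⟨e, he⟩ := corad_iso hG L hC hquot hkill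
  have h1 : Smooth C₁.hom := TorusAlgClosed.smooth_of_isTorus L.isTorus
  have h2 : Smooth R.hom := TorusAlgClosed.smooth_of_isTorus hR
  have h3 : LocallyOfFiniteType C.hom := by
    have h4 : IsIso e.hom.left := inferInstanceAs (IsIso ((Over.forget _).map e.hom))
    rw [← Over.w e.hom]
    infer_instance
  have h5 : LocallyOfFinitePresentation (r.left ≫ C.hom) := by
    rw [Over.w r]
    infer_instance
  exact MorphismProperty.of_postcomp (W := @LocallyOfFinitePresentation) (W' := @LocallyOfFiniteType)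
    r.left C.hom h3 h5

end K197.Corad
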