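import Groth.Agent.RedSub.K197.CharTriv
import Groth.Agent.RedSub.H654.Coradical
import Groth.Agent.Sga3B.SplitRedField415
import Groth.Prelude.Def_RedSub
import Groth.Agent.Sga3B.IsoFam
import Groth.Agent.Sga3B.BorCompat988

/-!
# The character `G ⟶ D_S(N)` of a split reductive group, `N` the characters killed by the coroots

* `cellMap_comp` : value of a homomorphism to a commutative group on the big cell.
* `exists_char` : `f : G ⟶ D_S(N)` with `D.i ≫ f = ...`, killing root groups, with a section which is a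
  homomorphism into the torus, and such that the kernel of `f` is killed by all homomorphisms to
  commutative groups.
-/

set_option autoImplicit false
set_option linter.unusedSectionVars false
universe u

open CategoryTheory MonoidalCategory CartesianMonoidalCategory MonObj GrpObj AlgebraicGeometry Limits

namespace K197.SplitChar

open Groth.Agent.Sga3B Groth.Agent.Sga3B.Cell Groth.Agent.Sga3B.PinMod Groth.Agent.Sga3B.DSPts
  Groth.Agent.Sga3B.GaPts Groth.Agent.RedSub.H654.UnivPt Groth.Agent.RedSub.H654.SchemeChar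
  Groth.Agent.Sga3B.PinFinal
open Groth.Agent.RedSub.H654

variable {S : Scheme.{u}} {G : Over S} [GrpObj G]

/-- ordered products of root groups are killed by homomorphisms to commutative groups -/
lemma prodMap_comp (D : Red.SplitRed G) {A : Over S} [GrpObj A] (f : G ⟶ A) [IsMonHom f]
    (h : ∀ a, D.u a ≫ f = 1) : ∀ {n : ℕ} (e : Fin n → D.idx),
      RedSub.prodMap (Red.Ga S) n (fun k => D.u (e k)) ≫ f = 1
  | 0, _ => MonObj.one_comp f
  | n + 1, e => by
    refine (MonObj.mul_comp (fst (Red.Ga S) (RedSub.pow (Red.Ga S) n) ≫ D.u (e 0))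
      (snd (Red.Ga S) (RedSub.pow (Red.Ga S) n) ≫ RedSub.prodMap (Red.Ga S) n
      (fun k => D.u (e k.succ))) f).trans ?_
    rw [Category.assoc, Category.assoc, h, prodMap_comp D f h, MonObj.comp_one,
      MonObj.comp_one, _root_.one_mul]
    rfl

/-- the value on the big cell -/
lemma cellMap_comp (D : Red.SplitRed G) {A : Over S} [GrpObj A] (f : G ⟶ A) [IsMonHom f]
    (h : ∀ a, D.u a ≫ f = 1) {n m : ℕ} (eneg : Fin n → D.idx) (epos : Fin m → D.idx) :
    RedSub.cellMap D eneg epos ≫ f = snd _ _ ≫ fst _ _ ≫ D.i ≫ f := by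
  rw [RedSub.cellMap, MonObj.mul_comp, MonObj.mul_comp]
  simp only [Category.assoc]
  rw [prodMap_comp D f h, prodMap_comp D f h, MonObj.comp_one, MonObj.comp_one, MonObj.comp_one,
    _root_.one_mul, _root_.mul_one]

lemma ds_comm' (N : Type) [AddCommGroup N] (X : Over S) (x y : X ⟶ Red.DS S N) : x * y = y * x :=
  ds_comm S N X x y

/-- killing for a pinned group over its base -/
theorem kill_pin (D : Red.Pinning G) (q : G ⟶ Red.DS S (NN D.base)) [IsMonHom q]
    (hq : jOf D.toSplitRed ≫ q = Red.DSmap S (nu D.base)) {A : Over S} [GrpObj A]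
    (hA : ∀ (X : Over S) (x y : X ⟶ A), x * y = y * x) (g : G ⟶ A) [IsMonHom g] {X : Over S}
    (x : X ⟶ G) (hx : x ≫ q = 1) : x ≫ g = 1 := by
  apply CharTriv.ptExt
  intro R _ s y
  obtain ⟨m⟩ := PinModelOf.nonempty_pinModel D R s
  rw [MonObj.comp_one, ← Category.assoc]
  exact Kill.kill_aff m q hq (funOf A hA s)
    (fun B _ _ => MonoidHom.mk' (fun z : tB s B ⟶ G => z ≫ g) (fun z z' => MonObj.mul_comp z z' g))
    (fun {B C} _ _ _ _ φ z => (Category.assoc _ _ _).symm) (y ≫ x)
    (by rw [Category.assoc, hx, MonObj.comp_one])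

/-- `N` is `NN b` -/
def eNN {idx M : Type} [Fintype idx] [AddCommGroup M] [Module.Free ℤ M]
    [Module.Finite ℤ M] {P : RootPairing idx ℤ M (Module.Dual ℤ M)} (b : P.Base) (N : AddSubgroup M)
    (hN : ∀ m : M, m ∈ N ↔ ∀ a : idx, P.coroot a m = 0) : NN b ≃+ N where
  toFun n := ⟨n, (hN n).2 fun a => RootNN.coroot_eq_zero n.2 a⟩
  invFun n := ⟨n, fun a _ => (hN n).1 n.2 a⟩
  left_inv _ := rfl
  right_inv _ := rfl
  map_add' _ _ := rfl

/-- The data of the character quotient of a split group. -/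
structure IsChar (D : Red.SplitRed G) (N : AddSubgroup D.M) (f : G ⟶ Red.DS S N) : Prop where
  hom : IsMonHom f
  torus : D.i ≫ f = D.split.hom.hom.hom ≫ Red.DSmap S N.subtype
  root : ∀ a, D.u a ≫ f = 1
  kill : ∀ (A : Over S) [GrpObj A], (∀ (X : Over S) (x y : X ⟶ A), x * y = y * x) →
    ∀ (g : G ⟶ A) [IsMonHom g] (X : Over S) (x : X ⟶ G), x ≫ f = 1 → x ≫ g = 1
  sec : ∃ τ : Red.DS S N ⟶ D.T, IsMonHom τ ∧ τ ≫ D.i ≫ f = 𝟙 _

theorem exists_char_pin (D : Red.Pinning G) (N : AddSubgroup D.M)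
    (hN : ∀ m : D.M, m ∈ N ↔ ∀ a : D.idx, D.P.coroot a m = 0) :
    ∃ f : G ⟶ Red.DS S N, IsChar D.toSplitRed N f := by
  obtain ⟨q, hq, hqj⟩ := LocChart.exists_q D
  let e := eNN D.base N hN
  let φ : N →+ NN D.base := e.symm.toAddMonoidHom
  have h1 : IsMonHom (Red.DSmap S φ) := BorSpan613.isMonHom_DSmap S _
  have h2 : D.i = D.split.hom.hom.hom ≫ jOf D.toSplitRed := by
    rw [jOf, ← Category.assoc]
    have h3 := congrArg (fun f => f.hom.hom) D.split.hom_inv_id
    change D.split.hom.hom.hom ≫ D.split.inv.hom.hom = 𝟙 _ at h3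
    rw [h3, Category.id_comp]
  have ht : D.i ≫ q ≫ Red.DSmap S φ = D.split.hom.hom.hom ≫ Red.DSmap S N.subtype := by
    rw [h2, Category.assoc, ← Category.assoc (jOf D.toSplitRed), hqj, BorSpan613.DSmap_comp_DSmap]
    rfl
  refine ⟨q ≫ Red.DSmap S φ, inferInstance, ht, fun a => CharTriv.u_comp_eq_one _ (ds_comm' _) _ _,
    ?_, ?_⟩
  · intro A _ hA g _ X x hx
    refine kill_pin D q hqj hA g x ?_
    let ψ : NN D.base →+ N := e.toAddMonoidHom
    have h3 : Red.DSmap S φ ≫ Red.DSmap S ψ = 𝟙 _ := by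
      rw [BorSpan613.DSmap_comp_DSmap]
      have h4 : φ.comp ψ = AddMonoidHom.id _ := by
        ext n
        rfl
      rw [h4, BorSpan613.DSmap_id]
    have h5 : IsMonHom (Red.DSmap S ψ) := BorSpan613.isMonHom_DSmap S _
    have h6 : x ≫ q = (x ≫ q ≫ Red.DSmap S φ) ≫ Red.DSmap S ψ := by
      rw [Category.assoc, Category.assoc, h3, Category.comp_id]
    rw [h6, hx]
    exact MonObj.one_comp (Red.DSmap S ψ)
  · obtain ⟨ρ, hρ⟩ := LocChart.exists_retraction D.base
    let ρ' : D.M →+ N := AddMonoidHom.comp (e.toAddMonoidHom : NN D.base →+ N) ρ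
    have h3 : IsMonHom (Red.DSmap S ρ') := BorSpan613.isMonHom_DSmap S _
    have h4 : IsMonHom D.split.inv.hom.hom := inferInstance
    refine ⟨Red.DSmap S ρ' ≫ D.split.inv.hom.hom, inferInstance, ?_⟩
    rw [ht, Category.assoc]
    have h5 := congrArg (fun f => f.hom.hom) D.split.inv_hom_id
    change D.split.inv.hom.hom ≫ D.split.hom.hom.hom = 𝟙 _ at h5
    rw [reassoc_of% h5, BorSpan613.DSmap_comp_DSmap]
    have h6 : ρ'.comp N.subtype = AddMonoidHom.id _ := by
      ext n
      have h7 := DFunLike.congr_fun hρ (φ n)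
      change ρ ((n : N) : D.M) = φ n at h7
      change ((e (ρ ((n : N) : D.M)) : N) : D.M) = _
      rw [h7]
      rfl
    rw [h6, BorSpan613.DSmap_id]

/-- **The character quotient of a split group exists** -/
theorem exists_char (D : Red.SplitRed G) (N : AddSubgroup D.M)
    (hN : ∀ m : D.M, m ∈ N ↔ ∀ a : D.idx, D.P.coroot a m = 0) :
    ∃ f : G ⟶ Red.DS S N, IsChar D N f := by
  by_cases hS : IsEmpty S
  · have hGe : IsEmpty G.left := ⟨fun x => hS.elim (G.hom x)⟩
    have hin : IsInitial G.left := isInitialOfIsEmpty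
    have huniq : ∀ {X Y : Over S} (f g : X ⟶ Y), f = g := fun f g =>
      BorCompat988.hom_eq_of_isEmpty hS f g
    have hTe : IsEmpty (Red.DS S N).left := ⟨fun x => hS.elim ((Red.DS S N).hom x)⟩
    have hin' : IsInitial (Red.DS S N).left := isInitialOfIsEmpty
    refine ⟨Over.homMk (hin.to _) (hin.hom_ext _ _), ⟨huniq _ _, huniq _ _⟩, huniq _ _,
      fun _ => huniq _ _, fun _ _ _ _ _ _ _ _ => huniq _ _,
      Over.homMk (hin'.to _) (hin'.hom_ext _ _), ⟨huniq _ _, huniq _ _⟩, huniq _ _⟩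
  · have hS' : Nonempty S := not_isEmpty_iff.1 hS
    have hred : D.P.IsReduced := SplitReduced415.isReduced D
    obtain ⟨b⟩ := BaseZ.nonempty_base D.P
    exact exists_char_pin { D with base := b } N hN

end K197.SplitChar
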