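import Mathlib.AlgebraicGeometry.Sites.Fpqc
import Mathlib.AlgebraicGeometry.Morphisms.Flat
import Mathlib.AlgebraicGeometry.Morphisms.FinitePresentation
import Mathlib.CategoryTheory.Limits.Constructions.Over.Basic
import Mathlib.CategoryTheory.Limits.Constructions.Over.Connected
import Mathlib.CategoryTheory.Monoidal.Cartesian.Over
import Mathlib.CategoryTheory.Monoidal.Cartesian.Grp

/-!
# fppf coverings in `Over S`: local lifts and descent of morphisms

* `IsCov c` : `c : T' ⟶ T` in `Over S` is surjective, flat, locally of finite presentation.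
* `exists_lift_local` : local lifts along a covering.
* `hom_ext`, `exists_desc`, `exists_desc_mono` : sheaf property.
-/

set_option autoImplicit false
universe u

open CategoryTheory Limits MonoidalCategory CartesianMonoidalCategory MonObj GrpObj AlgebraicGeometry

namespace K197.Fppf

variable {S : Scheme.{u}}

/-- an fppf covering in `Over S` -/
structure IsCov {T' T : Over S} (c : T' ⟶ T) : Prop where
  surj : Surjective c.left
  flat : Flat c.left
  lfp : LocallyOfFinitePresentation c.left

lemma IsCov.comp {T'' T' T : Over S} {c' : T'' ⟶ T'} {c : T' ⟶ T} (h' : IsCov c') (h : IsCov c) :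
    IsCov (c' ≫ c) := by
  obtain ⟨a1, a2, a3⟩ := h'
  obtain ⟨b1, b2, b3⟩ := h
  refine ⟨?_, ?_, ?_⟩
  all_goals rw [Over.comp_left]; infer_instance

lemma IsCov.id (T : Over S) : IsCov (𝟙 T) := by
  refine ⟨?_, ?_, ?_⟩
  all_goals rw [Over.id_left]; infer_instance

lemma IsCov.of_isPullback {A B C D : Over S} {f : A ⟶ B} {g : A ⟶ C} {h : B ⟶ D} {k : C ⟶ D}
    (hp : IsPullback f g h k) (hh : IsCov h) : IsCov g := by
  have hp' := (hp.map (Over.forget S)).flip
  obtain ⟨a1, a2, a3⟩ := hh
  exact ⟨MorphismProperty.of_isPullback (P := @Surjective) hp'.flip a1,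
    MorphismProperty.of_isPullback (P := @Flat) hp'.flip a2,
    MorphismProperty.of_isPullback (P := @LocallyOfFinitePresentation) hp'.flip a3⟩

/-- local lifts along a covering -/
lemma exists_lift_local {G Q : Over S} {q : G ⟶ Q} (hq : IsCov q) {T : Over S} (x : T ⟶ Q) :
    ∃ (T' : Over S) (c : T' ⟶ T) (g : T' ⟶ G), IsCov c ∧ g ≫ q = c ≫ x := by
  refine ⟨pullback q x, pullback.snd q x, pullback.fst q x,
    IsCov.of_isPullback (IsPullback.of_hasPullback q x) hq, pullback.condition⟩

lemma epi_left {T' T : Over S} {c : T' ⟶ T} (hc : IsCov c) : EffectiveEpi c.left := by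
  obtain ⟨a1, a2, a3⟩ := hc
  infer_instance

/-- morphisms are determined on a covering -/
lemma hom_ext {T' T X : Over S} {c : T' ⟶ T} (hc : IsCov c) {f g : T ⟶ X} (h : c ≫ f = c ≫ g) :
    f = g := by
  have := epi_left hc
  ext1
  rw [← cancel_epi c.left, ← Over.comp_left, ← Over.comp_left, h]

lemma epi {T' T : Over S} {c : T' ⟶ T} (hc : IsCov c) : Epi c := ⟨fun _ _ h => hom_ext hc h⟩

/-- descent of morphisms along a covering -/
lemma exists_desc {T' T X : Over S} {c : T' ⟶ T} (hc : IsCov c) (f : T' ⟶ X)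
    (h : ∀ (Z : Over S) (a b : Z ⟶ T'), a ≫ c = b ≫ c → a ≫ f = b ≫ f) :
    ∃ g : T ⟶ X, c ≫ g = f := by
  have := epi_left hc
  have hcomp : ∀ {Z : Scheme.{u}} (g₁ g₂ : Z ⟶ T'.left), g₁ ≫ c.left = g₂ ≫ c.left →
      g₁ ≫ f.left = g₂ ≫ f.left := by
    intro Z a b hab
    have h1 : a ≫ T'.hom = b ≫ T'.hom := by
      rw [← Over.w c, ← Category.assoc, hab, Category.assoc]
    have h2 := h (Over.mk (a ≫ T'.hom)) (Over.homMk a rfl) (Over.homMk b h1.symm) (by
      ext1
      exact hab)
    exact congrArg CommaMorphism.left h2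
  refine ⟨Over.homMk (EffectiveEpi.desc c.left f.left hcomp) ?_, ?_⟩
  · rw [← cancel_epi c.left, ← Category.assoc, EffectiveEpi.fac, Over.w, Over.w]
  · ext1
    exact EffectiveEpi.fac c.left f.left hcomp

/-- a morphism which locally factors through a monomorphism factors through it -/
lemma exists_desc_mono {T' T K G : Over S} {c : T' ⟶ T} (hc : IsCov c) (k : K ⟶ G) [Mono k]
    (g : T ⟶ G) (l : T' ⟶ K) (hl : l ≫ k = c ≫ g) : ∃ l₀ : T ⟶ K, l₀ ≫ k = g := by
  obtain ⟨l₀, hl₀⟩ := exists_desc hc l (fun Z a b hab => by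
    rw [← cancel_mono k, Category.assoc, Category.assoc, hl, ← Category.assoc, hab,
      Category.assoc])
  refine ⟨l₀, ?_⟩
  apply hom_ext hc
  rw [← Category.assoc, hl₀, hl]

end K197.Fppf
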