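import Groth.Prelude.Def_RedSub
import Groth.Agent.RedSub.K197.Fppf

/-!
# Point-level lemmas for `RedSub.IsQuotient`
-/

set_option autoImplicit false
set_option linter.unusedSectionVars false
universe u

open CategoryTheory Limits MonoidalCategory CartesianMonoidalCategory MonObj GrpObj AlgebraicGeometry

namespace K197.QuotPts

open K197.Fppf

variable {S : Scheme.{u}}

/-- pullback squares from points -/
lemma isPullback_of_pts {C : Type*} [Category C] {A B B' D : C} {f : A ⟶ B} {g : A ⟶ B'} {h : B ⟶ D}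
    {k : B' ⟶ D} (hw : f ≫ h = g ≫ k)
    (hex : ∀ (T : C) (x : T ⟶ B) (y : T ⟶ B'), x ≫ h = y ≫ k → ∃ a : T ⟶ A, a ≫ f = x ∧ a ≫ g = y)
    (huniq : ∀ (T : C) (a a' : T ⟶ A), a ≫ f = a' ≫ f → a ≫ g = a' ≫ g → a = a') :
    IsPullback f g h k := by
  refine ⟨⟨hw⟩, ⟨PullbackCone.IsLimit.mk _ (fun s => (hex s.pt s.fst s.snd s.condition).choose)
    (fun s => (hex s.pt s.fst s.snd s.condition).choose_spec.1)
    (fun s => (hex s.pt s.fst s.snd s.condition).choose_spec.2) fun s m h1 h2 => ?_⟩⟩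
  apply huniq
  · rw [h1, (hex s.pt s.fst s.snd s.condition).choose_spec.1]
  · rw [h2, (hex s.pt s.fst s.snd s.condition).choose_spec.2]

variable {H G : Over S} [GrpObj H] [GrpObj G] {i : H ⟶ G} {Q : Over S} {q : G ⟶ Q}

lemma lift_whisker_mul {T : Over S} (g : T ⟶ G) (h : T ⟶ H) :
    lift g h ≫ (G ◁ i) ≫ μ[G] = g * (h ≫ i) := by
  rw [← Category.assoc, lift_whiskerLeft]
  rfl

lemma isCov (hq : RedSub.IsQuotient i q) : IsCov q := ⟨hq.1, hq.2.1, hq.2.2.1⟩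

lemma mul_comp_eq (hq : RedSub.IsQuotient i q) {T : Over S} (g : T ⟶ G) (h : T ⟶ H) :
    (g * (h ≫ i)) ≫ q = g ≫ q := by
  rw [← lift_whisker_mul, Category.assoc, Category.assoc]
  have h1 := hq.2.2.2.w
  rw [Category.assoc] at h1
  rw [← h1, lift_fst_assoc]

lemma exists_of_eq (hq : RedSub.IsQuotient i q) {T : Over S} (g g' : T ⟶ G) (h : g ≫ q = g' ≫ q) :
    ∃ h : T ⟶ H, g' = g * (h ≫ i) := by
  obtain ⟨l, h1, h2⟩ := hq.2.2.2.exists_lift g g' h
  refine ⟨l ≫ snd _ _, ?_⟩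
  rw [← h2, ← lift_whisker_mul]
  congr 1
  apply CartesianMonoidalCategory.hom_ext
  · rw [h1, lift_fst]
  · rw [lift_snd]

lemma comp_eq_one_iff_of_isMonHom [GrpObj Q] [IsMonHom q] (hq : RedSub.IsQuotient i q)
    {T : Over S} (g : T ⟶ G) : g ≫ q = 1 ↔ ∃ h : T ⟶ H, h ≫ i = g := by
  constructor
  · intro h
    obtain ⟨l, hl⟩ := exists_of_eq hq (1 : T ⟶ G) g (by rw [h, MonObj.one_comp])
    exact ⟨l, by rw [hl, _root_.one_mul]⟩
  · rintro ⟨l, rfl⟩
    have := mul_comp_eq hq (1 : T ⟶ G) l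
    rwa [_root_.one_mul, MonObj.one_comp] at this

/-- `IsQuotient` from points -/
lemma isQuotient_of_pts [Mono i] (hq : IsCov q) (h1 : ∀ (T : Over S) (g : T ⟶ G) (h : T ⟶ H),
      (g * (h ≫ i)) ≫ q = g ≫ q)
    (h2 : ∀ (T : Over S) (g g' : T ⟶ G), g ≫ q = g' ≫ q → ∃ h : T ⟶ H, g' = g * (h ≫ i)) :
    RedSub.IsQuotient i q := by
  refine ⟨hq.surj, hq.flat, hq.lfp, isPullback_of_pts ?_ ?_ ?_⟩
  · have := h1 _ (fst G H) (snd G H)
    rw [← this, ← lift_whisker_mul, lift_fst_snd, Category.id_comp]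
  · intro T x y hxy
    obtain ⟨h, hh⟩ := h2 T x y hxy
    exact ⟨lift x h, lift_fst _ _, by rw [lift_whisker_mul, hh]⟩
  · intro T a a' h3 h4
    apply CartesianMonoidalCategory.hom_ext
    · exact h3
    · have e1 : ∀ a : T ⟶ G ⊗ H, a ≫ (G ◁ i) ≫ μ[G] = (a ≫ fst _ _) * ((a ≫ snd _ _) ≫ i) := by
        intro a
        rw [← lift_whisker_mul, ← comp_lift, lift_fst_snd, Category.comp_id]
      rw [e1, e1, h3] at h4
      have h5 := mul_left_cancel h4
      exact (cancel_mono i).1 h5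

end K197.QuotPts
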