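import Groth.Agent.RedSub.K197.NilComm
import Groth.Agent.RedSub.H635.Uniq
import Groth.Agent.RedSub.K194.Refl
import Groth.Agent.Sga3B.RootScheme876
import Groth.Agent.Sga3B.PinModelOf
import Groth.Agent.Sga3B.SplitBc264

/-!
# A subgroup of type (R) whose roots are not closed forces a characteristic

`exists_scale`: root homomorphisms of the same root differ by a unit on every chart.
`mem_tangent`: if `u_a(w ε)` lies in the subgroup then `w` is killed by the ideal `aI a`.
`cast_eq_zero`: if `u_a, u_b` lie in the subgroup `H` of type (R), `c = a + b` is a root and `u_c` is nowhere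
tangent to `H`, then the structure constant `p` (`= 1, 2, 3`) vanishes on the base.
-/

set_option autoImplicit false
universe u

open CategoryTheory MonoidalCategory CartesianMonoidalCategory MonObj GrpObj AlgebraicGeometry Limits

namespace K197.CharNC

open Groth.Agent.Sga3B.Cell Groth.Agent.Sga3B.Cell.Datum Groth.Agent.Sga3B Groth.Agent.Sga3B.PinMod
open DSPts GaPts Groth.Agent.RedSub.H635
open ConjCoact Wt Loc SchNbd Uniq K214.FnForm K197.NilComm

section tangent

open Polynomial

variable {R A : Type u} [CommRing R] [CommRing A] [Algebra R A] [PtGrp R A]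
variable {D : Datum R A} {H : Sub R A} (N : Nbd H) {C : Type u} [CommRing C] [Algebra R C]

omit [PtGrp R A] [CommRing A] [Algebra R A] in
lemma aeval_inr (w : C) (p : R[X]) : aeval (TrivSqZeroExt.inr w : TrivSqZeroExt C C) p =
    TrivSqZeroExt.inl (algebraMap R C (p.coeff 0)) +
      TrivSqZeroExt.inr (algebraMap R C (p.coeff 1) * w) := by
  induction p using Polynomial.induction_on' with
  | add p q hp hq =>
    rw [map_add, hp, hq, coeff_add, coeff_add, map_add, map_add, TrivSqZeroExt.inl_add, add_mul,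
      TrivSqZeroExt.inr_add]
    abel
  | monomial n r =>
    rw [Polynomial.aeval_monomial]
    have h0 : algebraMap R (TrivSqZeroExt C C) r = TrivSqZeroExt.inl (algebraMap R C r) := rfl
    rw [h0]
    match n with
    | 0 => simp
    | 1 =>
      rw [pow_one, TrivSqZeroExt.inl_mul_inr]
      simp
    | n + 2 =>
      rw [Polynomial.coeff_monomial, Polynomial.coeff_monomial, if_neg (by omega),
        if_neg (by omega), pow_add, pow_two, TrivSqZeroExt.inr_mul_inr]
      simp

/-- membership of a tangent vector of a root group -/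
theorem mem_tangent (a : D.idx) (w : C)
    (h : H.mem (D.uu a (TrivSqZeroExt C C) (TrivSqZeroExt.inr w))) :
      ∀ r ∈ N.aI a, algebraMap R C r * w = 0 := by
  have hf1 : ∀ f : A, ((D.uu a (TrivSqZeroExt C C) (TrivSqZeroExt.inr w)).hom f).fst =
      algebraMap R C (e1 R A f) := by
    intro f
    rw [uu_hom_apply, aeval_inr, up_coeff_zero]
    simp
  have hf2 : ∀ f : A, ((D.uu a (TrivSqZeroExt C C) (TrivSqZeroExt.inr w)).hom f).snd =
      algebraMap R C (lin D a f) * w := by
    intro f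
    rw [uu_hom_apply, aeval_inr]
    simp [lin]
  have hu : IsUnit ((D.uu a (TrivSqZeroExt C C) (TrivSqZeroExt.inr w)).hom N.g) := by
    rw [TrivSqZeroExt.isUnit_iff_isUnit_fst, hf1]
    exact N.e1_g.map (algebraMap R C)
  obtain ⟨b, hb⟩ := N.lift _ h hu
  have hbf : ∀ f, b (N.β f) = (D.uu a (TrivSqZeroExt C C) (TrivSqZeroExt.inr w)).hom f :=
    fun f => congrArg (fun k : A →ₐ[R] _ => k f) hb
  have hfst : ∀ z, (b z).fst = algebraMap R C (N.eB z) := by
    intro z
    have h1 : (TrivSqZeroExt.fstHom R C C).comp b = (Algebra.ofId R C).comp N.eB := by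
      apply N.hom_ext
      apply AlgHom.ext
      intro f
      change (b (N.β f)).fst = algebraMap R C (N.eB (N.β f))
      rw [hbf, hf1, N.eB_β]
    exact congrArg (fun k : N.B →ₐ[R] C => k z) h1
  rintro r ⟨f, hf, hf', rfl⟩
  have hsq : ∀ z ∈ N.IB ^ 2, (b z).snd = 0 := by
    intro z hz
    rw [pow_two] at hz
    induction hz using Submodule.mul_induction_on' with
    | mem_mul_mem x hx y hy =>
      rw [map_mul, TrivSqZeroExt.snd_mul, hfst, hfst, N.mem_IB.mp hx, N.mem_IB.mp hy]
      simp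
    | add x _ y _ hx hy => rw [map_add, TrivSqZeroExt.snd_add, hx, hy, add_zero]
  rw [← hf2, ← hbf]
  exact hsq _ hf

end tangent

variable {S : Scheme.{u}} {G H : Over S} [GrpObj G] [GrpObj H] (D : Red.SplitRed G) (i : H ⟶ G)
  [IsMonHom i]

/-- root homomorphisms of the same root differ by a unit -/
theorem exists_scale [Nonempty S] {a : D.idx} {v : Red.Ga S ⟶ G}
    (hv : Red.IsRootHom D.i (D.split.hom.hom.hom ≫ Red.chi S (D.P.root a)) v)
    {R : Type u} [CommRing R] (s : Spec (CommRingCat.of R) ⟶ S) :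
    ∃ r : Rˣ, ∀ (B : Type u) [CommRing B] [Algebra R B] (x : B),
      V v (tB s B) (fnOf s x) = V (D.u a) (tB s B) (fnOf s (algebraMap R B r * x)) := by
  have hred : D.P.IsReduced := SplitReduced415.isReduced D
  obtain ⟨b, hb⟩ := K194.Refl.exists_base_mem D.P a
  let D' : Red.Pinning G := { D with base := b }
  obtain ⟨m₀⟩ := PinModelOf.nonempty_pinModel D' R s
  obtain ⟨r, hr⟩ := RootScheme876.exists_unit D' hv m₀
  refine ⟨r, fun B _ _ x => ?_⟩
  rw [V, ← hr B x, m₀.pts_uu a hb B _]
  rfl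

theorem cast_chart [Nonempty S] [IsImmersion i.left] [Smooth H.hom] (t : D.T ⟶ H)
    (ht : t ≫ i = D.i) {a b c : D.idx} (hc : D.P.root c = D.P.root a + D.P.root b) {p : ℕ}
    (hp : Str D.P a b p) (ha : E D i a = Set.univ) (hb : E D i b = Set.univ) (hcE : E D i c = ∅)
    {R : Type u} [CommRing R] (s : Spec (CommRingCat.of R) ⟶ S) [IsOpenImmersion s] : (p : R) = 0 := by
  obtain ⟨ch, N, -, -⟩ := exists_chart_nbd D i s
  have h1 := one_mem_aI_of_E D i t ht c hcE s ch N
  obtain ⟨wa, hwa⟩ := exists_lift_u D i t ht a ha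
  obtain ⟨wb, hwb⟩ := exists_lift_u D i t ht b hb
  obtain ⟨e₁, v, vd, n, hC⟩ := exists_raw D
  obtain ⟨ra, hra⟩ := exists_scale D (hC.hv a) s
  obtain ⟨rb, hrb⟩ := exists_scale D (hC.hv b) s
  obtain ⟨rc, hrc⟩ := exists_scale D (hC.hv c) s
  obtain ⟨ε, hε, hcomm⟩ := comm_nil hC hc hp
  let C : Type u := TrivSqZeroExt R R
  let C' : Type u := TrivSqZeroExt C C
  let x : C' := TrivSqZeroExt.inl (TrivSqZeroExt.inr 1)
  let y : C' := TrivSqZeroExt.inr 1
  have hx : x ^ 2 = 0 := by
    rw [pow_two]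
    change TrivSqZeroExt.inl (TrivSqZeroExt.inr 1) * TrivSqZeroExt.inl (TrivSqZeroExt.inr 1) = (0 : C')
    rw [← TrivSqZeroExt.inl_mul, TrivSqZeroExt.inr_mul_inr, TrivSqZeroExt.inl_zero]
  have hy : y ^ 2 = 0 := by
    rw [pow_two]
    exact TrivSqZeroExt.inr_mul_inr _ _ _
  have hxy : x * y = TrivSqZeroExt.inr (TrivSqZeroExt.inr 1) := by
    change TrivSqZeroExt.inl (TrivSqZeroExt.inr 1) * TrivSqZeroExt.inr 1 = _
    rw [TrivSqZeroExt.inl_mul_inr, smul_eq_mul, _root_.mul_one]
  let F : C' →+* Γ((tB s C').left, ⊤) := (Scheme.ΓSpecIso (CommRingCat.of C')).inv.hom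
  have hF : ∀ z : C', fnOf s z = F z := fun z => rfl
  have h2 := hcomm (tB s C') (fnOf s x) (fnOf s y)
    (by rw [hF, ← map_pow, hx, map_zero]) (by rw [hF, ← map_pow, hy, map_zero])
  have h3 : (ε : Γ((tB s C').left, ⊤)) * p * fnOf s x * fnOf s y = fnOf s ((ε : C') * (p : C') * (x * y)) := by
    rw [hF, hF, hF, map_mul, map_mul, map_mul, ← _root_.mul_assoc, map_intCast, map_natCast]
  rw [h3, hra, hrb, hrc] at h2
  let w : C := TrivSqZeroExt.inr ((rc : R) * ((ε : R) * (p : R)))
  have hw : algebraMap R C' rc * ((ε : C') * (p : C') * (x * y)) = TrivSqZeroExt.inr w := by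
    have h7 : (TrivSqZeroExt.inr w : C') = TrivSqZeroExt.inr (TrivSqZeroExt.inr ((rc : R) * ((ε : R) * (p : R)))) := rfl
    have h8 : ∀ r : R, algebraMap R C' r * TrivSqZeroExt.inr (TrivSqZeroExt.inr 1) =
        (TrivSqZeroExt.inr (TrivSqZeroExt.inr r) : C') := by
      intro r
      have h9 : algebraMap R C' r = TrivSqZeroExt.inl (TrivSqZeroExt.inl r) := rfl
      rw [h9, TrivSqZeroExt.inl_mul_inr, smul_eq_mul, TrivSqZeroExt.inl_mul_inr, smul_eq_mul,
        _root_.mul_one]
    rw [hxy, h7, ← h8 ((rc : R) * ((ε : R) * (p : R))), map_mul, map_mul, map_intCast, map_natCast]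
    exact (_root_.mul_assoc _ _ _).symm
  have hmem : (sub ch i).mem ((ch.datum D).uu c C' (TrivSqZeroExt.inr w)) := by
    rw [mem_sub, ch.pts_uu, ← hw]
    let ya : tB s C' ⟶ H := gaPt _ (fnOf s (algebraMap R C' ra * x)) ≫ wa
    let yb : tB s C' ⟶ H := gaPt _ (fnOf s (algebraMap R C' rb * y)) ≫ wb
    have hya : ya ≫ i = V (D.u a) _ (fnOf s (algebraMap R C' ra * x)) := by
      rw [V, ← hwa, Category.assoc]
    have hyb : yb ≫ i = V (D.u b) _ (fnOf s (algebraMap R C' rb * y)) := by
      rw [V, ← hwb, Category.assoc]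
    refine ⟨yb * ya * yb⁻¹ * ya⁻¹, ?_⟩
    rw [MonObj.mul_comp, MonObj.mul_comp, MonObj.mul_comp, GrpObj.inv_comp, GrpObj.inv_comp, hya, hyb,
      h2]
    rfl
  have h4 := mem_tangent (D := ch.datum D) N c w hmem 1 h1
  rw [map_one, _root_.one_mul] at h4
  have h5 : (rc : R) * ((ε : R) * (p : R)) = 0 := congrArg TrivSqZeroExt.snd h4
  have h6 : (ε : R) * (p : R) = 0 := by
    have := congrArg (fun z => ((rc⁻¹ : Rˣ) : R) * z) h5
    simpa using this
  rcases hε with rfl | rfl
  · simpa using h6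
  · simpa using h6

/-- **The structure constant vanishes.** -/
theorem cast_eq_zero [Nonempty S] [IsImmersion i.left] [Smooth H.hom] (t : D.T ⟶ H)
    (ht : t ≫ i = D.i) {a b c : D.idx} (hc : D.P.root c = D.P.root a + D.P.root b) {p : ℕ}
    (hp : Str D.P a b p) (ha : E D i a = Set.univ) (hb : E D i b = Set.univ) (hcE : E D i c = ∅) :
    (p : Γ(S, ⊤)) = 0 := by
  refine Scheme.OpenCover.ext_elem _ _ S.affineOpenCover.openCover fun j => ?_
  rw [map_natCast, map_zero]
  let s : Spec (CommRingCat.of (S.affineOpenCover.X j)) ⟶ S := S.affineOpenCover.f j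
  have hs : IsOpenImmersion s := inferInstanceAs (IsOpenImmersion (S.affineOpenCover.f j))
  have h1 := cast_chart D i t ht hc hp ha hb hcE s
  have h2 := congrArg (Scheme.ΓSpecIso (CommRingCat.of (S.affineOpenCover.X j))).inv.hom h1
  rw [map_natCast, map_zero] at h2
  exact h2

/-- **Non-closed type (R) subsets occur only in characteristics 2 and 3.** -/
theorem char_of_not_closed {S : Scheme.{u}} {G : Over S} [GrpObj G] (D : Red.SplitRed G)
    {a b c : D.idx} (habc : D.P.root c = D.P.root a + D.P.root b) :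
    ∃ p : ℕ, (p = 1 ∨ p = 2 ∨ p = 3) ∧
      ∀ (S' : Scheme.{u}) (f : S' ⟶ S) (H : Over S') [GrpObj H] (h : H ⟶ Red.bc f G), RedSub.IsTypeR h →
      ∀ t : (SplitBc264.splitBc f D).T ⟶ H, t ≫ h = (SplitBc264.splitBc f D).i →
        E (SplitBc264.splitBc f D) h a = Set.univ → E (SplitBc264.splitBc f D) h b = Set.univ →
        E (SplitBc264.splitBc f D) h c = ∅ → (p : Γ(S', ⊤)) = 0 := by
  rcases isEmpty_or_nonempty S with hS | hS
  · refine ⟨1, Or.inl rfl, fun S' f H _ h hR t ht ha hb hcE => ?_⟩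
    have : IsEmpty S' := Function.isEmpty f
    exact Subsingleton.elim _ _
  have hred : D.P.IsReduced := SplitReduced415.isReduced D
  have hLI : K214.ChainComb.LI D.P a b := by
    refine li_of_add (fun x hx => ?_) habc
    exact (smul_eq_zero.mp hx).resolve_left (by norm_num)
  obtain ⟨p, hp, hp'⟩ := exists_str hLI habc
  refine ⟨p, hp, fun S' f H _ h hR t ht ha hb hcE => ?_⟩
  rcases isEmpty_or_nonempty S' with hS | hS
  · exact Subsingleton.elim _ _
  obtain ⟨⟨hm, hi⟩, hs, -⟩ := hR
  rcases hp' with h1 | h1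
  · exact cast_eq_zero (SplitBc264.splitBc f D) h t ht (a := a) (b := b) (c := c) habc h1 ha hb hcE
  · exact cast_eq_zero (SplitBc264.splitBc f D) h t ht (a := b) (b := a) (c := c)
      (habc.trans (add_comm _ _)) h1 hb ha hcE

end K197.CharNC
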