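import Groth.Agent.RedSub.H634.TorusCent
import Groth.Agent.RedSub.K197.DSExact
import Groth.Prelude.Def_RedSub

/-!
# The centralizer of `D_S(M / N)` is the torus
`N` the characters killed by the coroots.
* `exists_reg` : a regular cocharacter in the span of the coroots.
* `exists_torus_of_comm` : points commuting with `D_S(M / N)` are points of the torus.
-/

set_option autoImplicit false
universe u

open CategoryTheory MonoidalCategory CartesianMonoidalCategory MonObj GrpObj AlgebraicGeometry Limits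

namespace K197.RegCoch

open Groth.Agent.Sga3B Groth.Agent.Sga3B.DSPts Groth.Agent.Sga3B.BorRP478

lemma exists_ne_zero {κ V : Type} [AddCommGroup V] (p : AddSubgroup V) (f : κ → V →+ ℤ)
    (s : Finset κ) (h : ∀ i ∈ s, ∃ x ∈ p, f i x ≠ 0) : ∃ x ∈ p, ∀ i ∈ s, f i x ≠ 0 := by
  classical
  induction s using Finset.induction_on with
  | empty => exact ⟨0, p.zero_mem, by simp⟩
  | insert j s hj ih =>
    obtain ⟨x, hx, hxs⟩ := ih fun i hi => h i (Finset.mem_insert_of_mem hi)
    obtain ⟨y, hy, hyj⟩ := h j (Finset.mem_insert_self j s)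
    have hB : ∀ i ∈ insert j s, {t : ℤ | f i x + t * f i y = 0}.Finite := by
      intro i hi
      apply Set.Subsingleton.finite
      intro t ht t' ht'
      simp only [Set.mem_setOf_eq] at ht ht'
      have h1 : (t - t') * f i y = 0 := by linarith
      rcases mul_eq_zero.1 h1 with h2 | h2
      · linarith
      · exfalso
        rw [h2, mul_zero, add_zero] at ht
        rcases Finset.mem_insert.1 hi with rfl | h3
        · exact hyj h2
        · exact hxs i h3 ht
    have hfin : (⋃ i ∈ insert j s, {t : ℤ | f i x + t * f i y = 0}).Finite :=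
      Set.Finite.biUnion (insert j s).finite_toSet hB
    obtain ⟨t, ht⟩ := hfin.infinite_compl.nonempty
    refine ⟨x + t • y, p.add_mem hx (p.zsmul_mem hy t), fun i hi => ?_⟩
    intro h0
    apply ht
    simp only [Set.mem_iUnion]
    refine ⟨i, hi, ?_⟩
    rw [map_add, map_zsmul, smul_eq_mul] at h0
    exact h0

variable {S : Scheme.{u}} {G : Over S} [GrpObj G] (D : Red.SplitRed G)

theorem exists_reg (N : AddSubgroup D.M) (hN : ∀ m : D.M, m ∈ N ↔ ∀ a : D.idx, D.P.coroot a m = 0) :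
    ∃ x : Module.Dual ℤ D.M, (∀ n ∈ N, x n = 0) ∧ ∀ a, x (D.P.root a) ≠ 0 := by
  obtain ⟨x, hx, h⟩ := exists_ne_zero (Submodule.span ℤ (Set.range D.P.coroot)).toAddSubgroup
    (fun a : D.idx => (Module.Dual.eval ℤ D.M (D.P.root a)).toAddMonoidHom) Finset.univ fun a _ =>
      ⟨D.P.coroot a, Submodule.subset_span ⟨a, rfl⟩, by
        have h1 := D.P.root_coroot_two a
        rw [D.pairing_eq] at h1
        change (Module.Dual.eval ℤ D.M (D.P.root a)) (D.P.coroot a) ≠ 0
        rw [h1]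
        norm_num⟩
  refine ⟨x, fun n hn => ?_, fun a => h a (Finset.mem_univ a)⟩
  refine Submodule.span_induction (p := fun (x : Module.Dual ℤ D.M) _ => x n = 0) ?_ ?_ ?_ ?_ hx
  · rintro _ ⟨a, rfl⟩
    exact (hN n).1 hn a
  · rfl
  · intro x y _ _ hx hy
    rw [LinearMap.add_apply, hx, hy, add_zero]
  · intro k x _ hx
    rw [LinearMap.smul_apply, hx, smul_zero]

/-- **points commuting with `D_S(M / N)` are points of the torus** -/
theorem exists_torus_of_comm (N : AddSubgroup D.M)
    (hN : ∀ m : D.M, m ∈ N ↔ ∀ a : D.idx, D.P.coroot a m = 0) {X : Over S} (g : X ⟶ G)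
    (hg : ∀ (X' : Over S) (x : X' ⟶ X) (y : X' ⟶ Red.DS S (D.M ⧸ N)),
      (x ≫ g) * (y ≫ Red.DSmap S (QuotientAddGroup.mk' N) ≫ D.split.inv.hom.hom ≫ D.i) =
      (y ≫ Red.DSmap S (QuotientAddGroup.mk' N) ≫ D.split.inv.hom.hom ≫ D.i) * (x ≫ g)) :
    ∃ t : X ⟶ D.T, t ≫ D.i = g := by
  obtain ⟨x, hx, hr⟩ := exists_reg D N hN
  have haff : IsAffineHom G.hom := D.reductive.1
  have hi : IsMonHom D.i := D.maximalTorus.1
  have h1 := Groth.Agent.RedSub.H634.TorusCent.isDynZ_of_regular D x hr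
  have h2 := (Parab.DynExist998.isDynZ_iff D.i).1 h1
  refine (h2.2.2 X g).2 fun X' x' h => ?_
  let x₀ : D.M ⧸ N →+ ℤ := QuotientAddGroup.lift N x.toAddMonoidHom fun n hn => hx n hn
  have h3 : Red.DSmap S x = Red.DSmap S x₀ ≫ Red.DSmap S (QuotientAddGroup.mk' N) := by
    rw [BorSpan613.DSmap_comp_DSmap]
    rfl
  have h4 : h ≫ coch D x = (h ≫ Red.DSmap S x₀) ≫ Red.DSmap S (QuotientAddGroup.mk' N) ≫
      D.split.inv.hom.hom ≫ D.i := by
    change h ≫ Red.DSmap S x ≫ D.split.inv.hom.hom ≫ D.i = _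
    rw [h3]
    simp only [Category.assoc]
  change (x' ≫ g) * (h ≫ coch D x) = (h ≫ coch D x) * (x' ≫ g)
  rw [h4]
  exact hg X' x' _

end K197.RegCoch
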