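import Groth.Agent.RedSub.K197.Corad
import Groth.Agent.RedSub.K197.SplitChar
import Groth.Agent.RedSub.K197.RegCoch

/-!
# The derived group after base change
* `kill_bc` : points killed by the base change of the coradical quotient are killed by every homomorphism
  to a commutative group.
* `ker_iff` : after any base change `w`, for a splitting of `G_w` with its character `f`, the kernel
  of `q_w` and the one of `f` have the same points.
* `killed_bc` : base change of `KilledByCommutative`.
-/

set_option autoImplicit false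
set_option linter.unusedSectionVars false
universe u

open CategoryTheory MonoidalCategory CartesianMonoidalCategory MonObj GrpObj AlgebraicGeometry Limits

namespace K197.CoradBc

open Groth.Agent.Sga3B Groth.Agent.Sga3B.DSPts RadLat Groth.Agent.Sga3B.PinMod Groth.Agent.Sga3B.PinFinal
open Groth.Agent.RedSub.H654 Groth.Agent.RedSub.H654.Coradical Groth.Agent.RedSub.H654.LocChart
open Groth.Agent.RedSub.H654.UnivPt Groth.Agent.RedSub.H654.PtBc

variable {S : Scheme.{u}} {G C₁ : Over S} [GrpObj G] [GrpObj C₁] {q : G ⟶ C₁} [IsMonHom q]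

theorem kill_bc (L : LQ q) {W : Scheme.{u}} (w : W ⟶ S) (A : Over W) [GrpObj A]
    (hA : ∀ (X : Over W) (x y : X ⟶ A), x * y = y * x) (f : Red.bc w G ⟶ A) [IsMonHom f] {X : Over W}
    (x : X ⟶ Red.bc w G) (hx : x ≫ (Over.pullback w).map q = 1) : x ≫ f = 1 := by
  refine RepDescent.hom_ext_cover (T := Over.mk (𝟙 W)) (J := S)
    (fun s => Over.mk (pullback.fst w (L.c s).v))
    (fun s => Over.homMk (pullback.fst w (L.c s).v) (Category.comp_id _))
    (fun s => inferInstanceAs (Etale (pullback.fst w (L.c s).v)))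
    (fun t => ?_) (Over.homMk X.hom (Category.comp_id _)) _ _ ?_
  · obtain ⟨b, hb⟩ := L.hc (w t)
    obtain ⟨z, hz, -⟩ := Scheme.Pullback.exists_preimage_pullback (f := w) (g := (L.c (w t)).v)
      t b hb.symm
    exact ⟨w t, z, hz⟩
  · intro s R p r _
    let a : R.left ⟶ Spec (L.c s).B := r.left ≫ pullback.snd w (L.c s).v
    let τ : R.left ⟶ S := R.hom ≫ w
    have hr : r.left ≫ pullback.fst w (L.c s).v = R.hom := Over.w r
    have ha : a ≫ (L.c s).v = τ := by
      change (r.left ≫ pullback.snd w (L.c s).v) ≫ (L.c s).v = R.hom ≫ w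
      rw [Category.assoc, ← pullback.condition, ← Category.assoc, hr]
    let x' : Over.mk R.hom ⟶ Red.bc w G := p ≫ x
    let x₀ : Over.mk τ ⟶ G := dn rfl x'
    have hx' : x' = up rfl x₀ := (up_dn rfl x').symm
    have h0 : x₀ ≫ q = 1 := by
      apply up_injective (v := w) (a := R.hom) (τ := τ) rfl
      rw [← up_comp, ← hx']
      change (p ≫ x) ≫ _ = _
      rw [Category.assoc, hx, MonObj.comp_one]
      exact (up_one rfl).symm
    have h1 : (up ha x₀ : Over.mk a ⟶ Red.bc (L.c s).v G) ≫ (L.c s).q = 1 := by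
      have h2 : (up ha x₀ : Over.mk a ⟶ Red.bc (L.c s).v G) ≫ (Over.pullback (L.c s).v).map q =
        (1 : Over.mk a ⟶ Red.bc (L.c s).v C₁) := by
        rw [up_comp, h0]
        exact up_one ha
      rw [← L.hq s, ← Category.assoc, h2]
      have h3 : IsMonHom (L.e s).hom := L.he s
      exact MonObj.one_comp (L.e s).hom
    have h2 := (L.c s).kill w A hA f ha (e := R.hom) rfl x₀ h1
    rw [← hx'] at h2
    rw [MonObj.comp_one, ← Category.assoc]
    exact h2

lemma comm_bc {W : Scheme.{u}} (w : W ⟶ S) {A : Over S} [GrpObj A]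
    (hA : ∀ (X : Over S) (x y : X ⟶ A), x * y = y * x) (X : Over W) (x y : X ⟶ Red.bc w A) :
    x * y = y * x := by
  let x' : Over.mk X.hom ⟶ Red.bc w A := x
  let y' : Over.mk X.hom ⟶ Red.bc w A := y
  have h3 : x' * y' = y' * x' := by
    apply (upE (v := w) (a := X.hom) rfl A).symm.injective
    rw [map_mul, map_mul]
    exact hA _ _ _
  exact h3

/-- kernels are stable under base change -/
theorem isKernel_bc {W : Scheme.{u}} (w : W ⟶ S) {D G C : Over S} [GrpObj G] [GrpObj C] {d : D ⟶ G}
    {q : G ⟶ C} (hd : AlgGrp.IsKernel d q) :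
    AlgGrp.IsKernel ((Over.pullback w).map d : Red.bc w D ⟶ Red.bc w G)
      ((Over.pullback w).map q : Red.bc w G ⟶ Red.bc w C) := by
  have hm := SecKer.mono_of_isKernel hd
  have hm' : Mono ((Over.pullback w).map d : Red.bc w D ⟶ Red.bc w G) := inferInstance
  refine Corad.isKernel_of_pts ?_ fun X x hx => ?_
  · rw [← Functor.map_comp, SecKer.comp_eq_one_of_isKernel hd]
    exact Functor.map_one _
  · let x' : Over.mk X.hom ⟶ Red.bc w G := x
    have h1 : dn (v := w) rfl x' ≫ q = 1 := by
      rw [← dn_comp]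
      have h2 : x' ≫ (Over.pullback w).map q = (1 : Over.mk X.hom ⟶ Red.bc w C) := hx
      rw [h2]
      exact dn_one rfl
    obtain ⟨y, hy⟩ := SecKer.exists_lift_of_isKernel hd _ h1
    refine ⟨up rfl y, ?_⟩
    have h2 : up (v := w) (a := X.hom) rfl y ≫ (Over.pullback w).map d = x' := by
      rw [up_comp, hy, up_dn]
    exact h2

/-- **the kernel of the character of a splitting is the derived group** -/
theorem ker_iff (L : LQ q) {W : Scheme.{u}} (w : W ⟶ S) (E : Red.SplitRed (Red.bc w G))
    {N : AddSubgroup E.M} {f : Red.bc w G ⟶ Red.DS W N} (hf : SplitChar.IsChar E N f) {X : Over W}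
    (x : X ⟶ Red.bc w G) : x ≫ (Over.pullback w).map q = 1 ↔ x ≫ f = 1 := by
  constructor
  · have := hf.hom
    exact kill_bc L w _ (SplitChar.ds_comm' N) f x
  · exact hf.kill (Red.bc w C₁) (comm_bc w (Corad.comm_of_LQ L)) _ X x

/-- the base change of a pinned derived group is killed by homomorphisms to commutative groups -/
theorem killed_bc (L : LQ q) {D : Over S} [GrpObj D] {d : D ⟶ G} (hd : AlgGrp.IsKernel d q)
    {W : Scheme.{u}} (w : W ⟶ S) : RedSub.KilledByCommutative
      ((Over.pullback w).map d : Red.bc w D ⟶ Red.bc w G) := by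
  intro A _ f _ hA
  exact kill_bc L w A hA f _ (SecKer.comp_eq_one_of_isKernel (isKernel_bc w hd))

end K197.CoradBc
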