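import Groth.Agent.RedSub.K197.SplitChar
import Groth.Agent.S3951

/-!
# The big cell and the character quotient of a split group
-/

set_option autoImplicit false
set_option linter.unusedSectionVars false
universe u

open CategoryTheory MonoidalCategory CartesianMonoidalCategory MonObj GrpObj AlgebraicGeometry Limits

namespace K197.BigCell

variable {S : Scheme.{u}} {G : Over S} [GrpObj G]

/-- lifting along an open immersion in `Over S` -/
lemma exists_lift_open {X Y Z : Over S} (c : Y ⟶ Z) (hc : IsOpenImmersion c.left) (g : X ⟶ Z)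
    (h : Set.range g.left.base ⊆ Set.range c.left.base) : ∃ z : X ⟶ Y, z ≫ c = g := by
  have h1 : IsOpenImmersion.lift c.left g.left h ≫ c.left = g.left :=
    IsOpenImmersion.lift_fac _ _ _
  refine ⟨Over.homMk (IsOpenImmersion.lift c.left g.left h) ?_, ?_⟩
  · rw [← Over.w c, ← Category.assoc, h1, Over.w]
  · ext1
    exact h1

variable {Ω C : Over S} [GrpObj C]

/-- **Generic multiplicativity**, abstract form -/
theorem gen_mult (c : Ω ⟶ G) (hc : IsOpenImmersion c.left) (f : G ⟶ C) [IsMonHom f] :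
    ∃ V : Set ↥(Ω ⊗ Ω).left, IsOpen V ∧
      (∀ u₀ : 𝟙_ (Over S) ⟶ Ω, u₀ ≫ c = 1 → Set.range (lift u₀ u₀).left.base ⊆ V) ∧
      ∀ (X : Over S) (x y : X ⟶ Ω), Set.range (lift x y).left.base ⊆ V →
        ∃ z : X ⟶ Ω, z ≫ c = (x ≫ c) * (y ≫ c) ∧
          z ≫ c ≫ f = (x ≫ c ≫ f) * (y ≫ c ≫ f) := by
  let m : Ω ⊗ Ω ⟶ G := (fst _ _ ≫ c) * (snd _ _ ≫ c)
  have hm : ∀ {X : Over S} (x y : X ⟶ Ω), lift x y ≫ m = (x ≫ c) * (y ≫ c) := by
    intro X x y
    rw [MonObj.comp_mul, lift_fst_assoc, lift_snd_assoc]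
  refine ⟨m.left.base ⁻¹' (Set.range c.left.base), ?_, ?_, ?_⟩
  · exact c.left.isOpenEmbedding.isOpen_range.preimage m.left.continuous
  · intro u₀ hu
    rintro _ ⟨p, rfl⟩
    have h1 : lift u₀ u₀ ≫ m = u₀ ≫ c := by rw [hm, hu, _root_.mul_one]
    refine ⟨u₀.left p, ?_⟩
    have h2 := congrArg (fun f => f.left p) h1
    simp only [Over.comp_left, Scheme.Hom.comp_apply] at h2
    exact h2.symm
  · intro X x y hxy
    obtain ⟨z, hz⟩ := exists_lift_open c hc ((x ≫ c) * (y ≫ c)) (by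
      rintro _ ⟨p, rfl⟩
      obtain ⟨q, hq⟩ := hxy ⟨p, rfl⟩
      refine ⟨q, hq.trans ?_⟩
      have h2 := congrArg (fun f => f.left p) (hm x y)
      simp only [Over.comp_left, Scheme.Hom.comp_apply] at h2
      exact h2)
    refine ⟨z, hz, ?_⟩
    rw [← Category.assoc, hz, MonObj.mul_comp, Category.assoc, Category.assoc]

end K197.BigCell
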