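import Groth.Agent.RedSub.K197.BorNorm
import Groth.Agent.AGF.K501.NormPts

/-!
# Borel subgroups of a reductive group and of its derived group
-/

set_option autoImplicit false
set_option linter.unusedSectionVars false
universe u

open CategoryTheory MonoidalCategory CartesianMonoidalCategory MonObj GrpObj AlgebraicGeometry Limits

namespace K197.BorDer

open Groth.Agent Groth.Agent.Sga3B Groth.Agent.Sga3B.DSPts RadLat Groth.Agent.Sga3B.PinMod Groth.Agent.Sga3B.PinFinal
open Groth.Agent.RedSub.H654 Groth.Agent.RedSub.H654.Coradical Groth.Agent.RedSub.H654.LocChart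
open Groth.Agent.RedSub.H654.UnivPt Groth.Agent.Sga3B.Parab BorNorm

section centre

variable {S : Scheme.{u}} {G : Over S} [GrpObj G]

/-- the centre of a reductive group exists -/
theorem exists_centre (hG : Red.IsReductive G) : ∃ (Z : Over S) (_ : GrpObj Z) (j : Z ⟶ G),
    IsClosedImmersion j.left ∧ Red.IsCentre j := by
  have h1 : IsAffineHom G.hom := hG.1
  have h2 : Smooth G.hom := hG.2.1
  have h3 := MaxTorBc505.geometricallyIrreducible hG
  have h4 : IsClosedImmersion (𝟙 G : G ⟶ G).left := inferInstanceAs (IsClosedImmersion (𝟙 G.left))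
  obtain ⟨Z, _, j, hjc, hZ, -⟩ := CentRep.exists_centralizer (G := G) (𝟙 G)
  exact ⟨Z, inferInstance, j, hjc, hZ⟩

end centre

section field

variable {K : Type u} [Field K] [IsAlgClosed K] {G D C₁ : Over (Spec (CommRingCat.of K))}
  [GrpObj G] [GrpObj D] [GrpObj C₁]

theorem exists_RCov_field (hG : Red.IsReductive G) {q : G ⟶ C₁} [IsMonHom q]
    (L : LQ q) {d : D ⟶ G} [IsMonHom d] (hd : AlgGrp.IsKernel d q) :
    ∃ (R : Over (Spec (CommRingCat.of K))) (_ : GrpObj R) (ρ : R ⟶ G), RCov ρ d := by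
  have h1 : IsAffineHom G.hom := hG.1
  have h2 : Smooth G.hom := hG.2.1
  obtain ⟨Z, _, j, hjc, hZ⟩ := exists_centre hG
  have h5 : IsAffine G.left := isAffine_of_isAffineHom G.hom
  have h6 : IsAffine Z.left := isAffine_of_isAffineHom j.left
  have h7 : LocallyOfFiniteType Z.hom := by
    rw [← Over.w j]
    infer_instance
  obtain ⟨R, _, r, hR, -⟩ := RG.BrHc.exists_isMaximalTorus Z
  have hj1 := hZ.1
  have hr1 := hR.1
  refine ⟨R, inferInstance, r ≫ j, inferInstance, fun X x g => ?_, DerSub.isCov_mul L hd hZ hR,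
    TorusAlgClosed.smooth_of_isTorus hR.2.2.1, TorusIrr.geometricallyIrreducible_of_isTorus hR.2.2.1⟩
  have := K198.Rad.centre_comm j hZ (x ≫ r) g
  rwa [Category.assoc] at this

end field

section base

variable {S : Scheme.{u}} {G D C₁ : Over S} [GrpObj G] [GrpObj D] [GrpObj C₁]

theorem isog_radI {q : G ⟶ C₁} [IsMonHom q] (L : LQ q) (s : S) :
    Isog.IsIsog (RadSplit.radI (L.c s).D.toSplitRed ≫ (Over.pullback (L.c s).v).map q).left := by
  let D := (L.c s).D.toSplitRed
  have hne : Nonempty (Spec (L.c s).B) := by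
    obtain ⟨b, -⟩ := L.hc s
    exact ⟨b⟩
  have hred : D.P.IsReduced := SplitReduced415.isReduced D
  have h1 : RadSplit.radI (L.c s).D.toSplitRed ≫ (Over.pullback (L.c s).v).map q =
      Red.DSmap _ ((QuotientAddGroup.mk' (PP D.P)).comp (nu (L.c s).D.base)) ≫ (L.e s).inv := by
    rw [L.map_q, RadSplit.radI]
    simp only [Category.assoc]
    have h2 := (L.c s).hqj
    rw [jOf, Category.assoc] at h2
    rw [← BorSpan613.DSmap_comp_DSmap, Category.assoc, ← h2]
    simp only [Category.assoc]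
    rfl
  rw [h1, Over.comp_left]
  have h4 : IsIso (L.e s).inv.left := inferInstanceAs (IsIso ((Over.forget _).map (L.e s).inv))
  refine Isog.IsIsog.comp ?_ (Isog.IsIsog.of_isIso _)
  have hN : ∀ m : D.M, m ∈ (NN (L.c s).D.base).toAddSubgroup ↔ ∀ a : D.idx, D.P.coroot a m = 0 :=
    fun m => ⟨fun hm a => RootNN.coroot_eq_zero hm a, fun hm a _ => hm a⟩
  exact Isog.isIsog_DSmap _ _ (injective_N (NN (L.c s).D.base).toAddSubgroup hN D.pairing_eq)
    (torsion_N (NN (L.c s).D.base).toAddSubgroup hN D.pairing_eq)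

/-- `R × D ⟶ G` is an fppf covering when `R ⟶ G/D` is an isogeny of tori -/
theorem isCov_of_isog {R : Over S} [GrpObj R] {q : G ⟶ C₁} [IsMonHom q] (hC : Red.IsTorus C₁) (hR : Red.IsTorus R)
    {d : D ⟶ G} [IsMonHom d] (hd : AlgGrp.IsKernel d q) (ρ : R ⟶ G) [IsMonHom ρ]
    (h1 : Isog.IsIsog (ρ ≫ q).left) : Fppf.IsCov ((ρ ⊗ₘ d) ≫ μ[G]) := by
  have h2 := (RadDer.isPullback_mul ρ d q hd).map (Over.forget S)
  have h3 : Smooth C₁.hom := TorusAlgClosed.smooth_of_isTorus hC
  have h4 : Smooth R.hom := TorusAlgClosed.smooth_of_isTorus hR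
  have h5 : LocallyOfFinitePresentation ((ρ ≫ q).left ≫ C₁.hom) := by
    rw [Over.w (ρ ≫ q)]
    infer_instance
  have h6 : LocallyOfFinitePresentation (ρ ≫ q).left :=
    MorphismProperty.of_postcomp (W := @LocallyOfFinitePresentation) (W' := @LocallyOfFiniteType)
      (ρ ≫ q).left C₁.hom inferInstance h5
  obtain ⟨a, b, -⟩ := (Isog.isIsog_iff _).1 h1
  exact ⟨MorphismProperty.of_isPullback (P := @Surjective) h2 a,
    MorphismProperty.of_isPullback (P := @Flat) h2 b,
    MorphismProperty.of_isPullback (P := @LocallyOfFinitePresentation) h2 h6⟩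

theorem exists_RCov_local (hG : Red.IsReductive G) {q : G ⟶ C₁} [IsMonHom q]
    (L : LQ q) {d : D ⟶ G} [IsMonHom d] (hd : AlgGrp.IsKernel d q) (s : S) :
    ∃ (R : Over (Spec (L.c s).B)) (_ : GrpObj R) (ρ : R ⟶ Red.bc (L.c s).v G),
      RCov ρ ((Over.pullback (L.c s).v).map d : Red.bc (L.c s).v D ⟶ Red.bc (L.c s).v G) := by
  obtain ⟨Z, _, j, hjc, hZ⟩ := exists_centre (RedBc892U.isReductive_bc (L.c s).v hG)
  have hr1 := RadSplit.isMonHom_radI (L.c s).D.toSplitRed
  have hR := RadSplit.isTorus_DS (Spec (L.c s).B) ((L.c s).D.M ⧸ PP (L.c s).D.P)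
  obtain ⟨t, ht⟩ := RadSplit.exists_toCentre (L.c s).D.toSplitRed j hZ
  refine ⟨_, inferInstance, RadSplit.radI (L.c s).D.toSplitRed, hr1, fun X x g => ?_,
    isCov_of_isog (TorusBc.isTorus_bc (L.c s).v L.isTorus) hR (CoradBc.isKernel_bc (L.c s).v hd) _ (isog_radI L s),
    TorusAlgClosed.smooth_of_isTorus hR, TorusIrr.geometricallyIrreducible_of_isTorus hR⟩
  have := K198.Rad.centre_comm j hZ (x ≫ t) g
  rwa [Category.assoc, ht] at this

end base

section fieldA

variable {K : Type u} [Field K] [IsAlgClosed K] {G D B B' C₁ : Over (Spec (CommRingCat.of K))}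
  [GrpObj G] [GrpObj D] [GrpObj B] [GrpObj B'] [GrpObj C₁]

/-- **`B ∩ D` is a Borel subgroup of `D`**, over a field -/
theorem isBorelOver_inter (hG : Red.IsReductive G) {q : G ⟶ C₁} [IsMonHom q]
    (L : LQ q) {d : D ⟶ G} [IsMonHom d] (hd : AlgGrp.IsKernel d q) {i : B ⟶ G} (hi : Red.IsBorelOver K i)
    {a : B' ⟶ B} {b : B' ⟶ D} [IsMonHom a] [IsMonHom b] (hsq : IsPullback a b i d) : Red.IsBorelOver K b := by
  obtain ⟨R, _, ρ, h⟩ := exists_RCov_field hG L hd
  have hdm := SecKer.mono_of_isKernel hd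
  have hdcl := BorSec.isClosedImmersion_ker L hd
  have hD := BorSec.isReductive_der hG L hd
  have hGaff : IsAffineHom G.hom := hG.1
  have hGsm : Smooth G.hom := hG.2.1
  have hDaff : IsAffineHom D.hom := hD.1
  have hGo := AlgBc.isReductive_iff.1 hG
  have hi1 := hi.1
  have hi2 := hi.2.1
  have hi3 := hi.2.2.1
  have him : Mono i := Over.mono_of_mono_left i
  have ham : Mono a := ⟨fun x y hxy => hsq.hom_ext hxy (by
    rw [← cancel_mono d, Category.assoc, Category.assoc, ← hsq.w, reassoc_of% hxy])⟩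
  have hbcl : IsClosedImmersion b.left :=
    MorphismProperty.of_isPullback (P := @IsClosedImmersion) (hsq.map (Over.forget _)) hi2
  have hbm : Mono b := Over.mono_of_mono_left b
  have hBaff : IsAffineHom B.hom := by
    rw [← Over.w i]
    infer_instance
  have hB'aff : IsAffineHom B'.hom := by
    rw [← Over.w b]
    infer_instance
  have htypeR := (Groth.Agent.RedSub.H648.TypeR.isBorelSub_of_isBorel hG (AlgBc.isBorel_iff.2 hi)).1
  obtain ⟨hs, hc⟩ := BorSec.smooth_conn_inter hG L hd htypeR hsq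
  refine ⟨inferInstance, hbcl, hs, connectedSpace_field _ hc,
    Groth.Agent.AlgGrp.K411.SpecReg.isSolvableGrp_of_mono a hi.2.2.2.2.1, ?_⟩
  intro B'' _ i'' _ f hcl'' hs'' hc'' hsolv'' hf
  have hi''m : Mono i'' := Over.mono_of_mono_left i''
  obtain ⟨B₀, _, b₀, hb₀, j, hj⟩ := Groth.Agent.Redsub.H673.SolvBor.exists_borel (AlgBc.isReductive_iff.1 hD) i''
    hcl'' hs'' hc'' hsolv''
  have hb₀1 := hb₀.1
  have hb₀2 := hb₀.2.1
  have hb₀3 := hb₀.2.2.1
  have hb₀4 := Groth.Agent.RedSub.H641.TypeRBc.geomIrr_of_conn (hasConnectedFibres_field _ hb₀.2.2.2.1)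
  have hcl0 : IsClosedImmersion (b₀ ≫ d).left := by
    rw [Over.comp_left]
    infer_instance
  obtain ⟨N₀, _, n₀, hncl, hn₀, -⟩ := CentRep.exists_normalizer (b₀ ≫ d)
  have hN := isBorelOver_norm hG L hd h hb₀ hn₀ hncl
  have hn1 := hn₀.1
  have hn2 := hn₀.2.1
  -- the centre is contained in `B`
  obtain ⟨T, _, t, ht, hT, hmem⟩ := by
    have hGl : IsAffine G.left := hGo.1
    have hGc : ConnectedSpace G.left := hGo.2.2.1
    exact Agf.H588.BorelNormSch.exists_torus i hi
  obtain ⟨cRB, hRB⟩ := hmem R ρ (fun X' y s => h.central _ _ _)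
  obtain ⟨cR, hR⟩ := exists_cR h hn₀
  obtain ⟨cB, hB⟩ := exists_cB hn₀
  obtain ⟨φ, hφ⟩ : ∃ φ : B ⟶ N₀, φ ≫ n₀ = i := by
    obtain ⟨X, c, r, δ, hc, e⟩ := h.exists_local i
    have e1 : ((r ≫ cRB)⁻¹ * c) ≫ i = δ ≫ d := by
      rw [MonObj.mul_comp, GrpObj.inv_comp, Category.assoc, hRB, e, inv_mul_cancel_left]
    refine Fppf.exists_desc_mono hc n₀ i ((r ≫ cR) * (hsq.lift _ _ e1 ≫ f ≫ j ≫ cB)) ?_
    rw [e, MonObj.mul_comp, Category.assoc, hR]
    simp only [Category.assoc, hB]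
    rw [reassoc_of% hj, reassoc_of% hf, hsq.lift_snd_assoc]
  have hφi : IsIso φ := hi.2.2.2.2.2 N₀ n₀ φ hncl hN.2.2.1 hN.2.2.2.1 hN.2.2.2.2.1 hφ
  refine ⟨hsq.lift (j ≫ cB ≫ inv φ) i'' (by
    have h1 : inv φ ≫ i = n₀ := by rw [IsIso.inv_comp_eq, hφ]
    simp only [Category.assoc]
    rw [h1, hB, reassoc_of% hj]), ?_, ?_⟩
  · rw [← cancel_mono b, Category.assoc, hsq.lift_snd, hf, Category.id_comp]
  · rw [← cancel_mono i'', Category.assoc, hf, hsq.lift_snd, Category.id_comp]

end fieldA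

section baseA

variable {S : Scheme.{u}} {G D B B' C₁ : Over S} [GrpObj G] [GrpObj D] [GrpObj C₁] [GrpObj B] [GrpObj B']

/-- **`B ∩ D` is a Borel subgroup of `D`** -/
theorem isBorel_inter (hG : Red.IsReductive G) {q : G ⟶ C₁} [IsMonHom q]
    (L : LQ q) {d : D ⟶ G} [IsMonHom d] (hd : AlgGrp.IsKernel d q) {i : B ⟶ G} (hi : Red.IsBorel i)
    {a : B' ⟶ B} {b : B' ⟶ D} [IsMonHom a] [IsMonHom b] (hsq : IsPullback a b i d) : Red.IsBorel b := by
  have hdm := SecKer.mono_of_isKernel hd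
  have hdcl := BorSec.isClosedImmersion_ker L hd
  have hD := BorSec.isReductive_der hG L hd
  have hGaff : IsAffineHom G.hom := hG.1
  have hDaff : IsAffineHom D.hom := hD.1
  have hi2 := hi.2.1
  have hbcl : IsClosedImmersion b.left :=
    MorphismProperty.of_isPullback (P := @IsClosedImmersion) (hsq.map (Over.forget _)) hi2
  have hBaff : IsAffineHom B.hom := by
    rw [← Over.w i]
    infer_instance
  have hB'aff : IsAffineHom B'.hom := by
    rw [← Over.w b]
    infer_instance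
  have htypeR := (Groth.Agent.RedSub.H648.TypeR.isBorelSub_of_isBorel hG hi).1
  obtain ⟨hs, -⟩ := BorSec.smooth_conn_inter hG L hd htypeR hsq
  refine ⟨inferInstance, hbcl, hs, fun s => ?_⟩
  obtain ⟨C', _, q', hq', L', hd'⟩ := DerCent.exists_LQ_bc hG L hd (Red.geomPt s)
  exact isBorelOver_inter (RedBc892U.isReductive_bc (Red.geomPt s) hG) L' hd' (hi.2.2.2 s)
    (hsq.map (Over.pullback (Red.geomPt s)))

/-- **the normalizer in `G` of a Borel subgroup of `D` is a Borel subgroup** -/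
theorem exists_norm (hG : Red.IsReductive G) {q : G ⟶ C₁} [IsMonHom q]
    (L : LQ q) {d : D ⟶ G} [IsMonHom d] (hd : AlgGrp.IsKernel d q) {b : B' ⟶ D} (hb : Red.IsBorel b) :
    ∃ (N : Over S) (_ : GrpObj N) (n : N ⟶ G), Red.IsNormalizerOf (b ≫ d) n ∧ Red.IsBorel n := by
  have hdm := SecKer.mono_of_isKernel hd
  have hdcl := BorSec.isClosedImmersion_ker L hd
  have hD := BorSec.isReductive_der hG L hd
  have hGaff : IsAffineHom G.hom := hG.1
  have hGsm : Smooth G.hom := hG.2.1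
  have hDaff : IsAffineHom D.hom := hD.1
  have hDsm : Smooth D.hom := hD.2.1
  have hb1 := hb.1
  have hb2 := hb.2.1
  have hb3 := hb.2.2.1
  have hconn := (Groth.Agent.RedSub.H648.TypeR.isBorelSub_of_isBorel hD hb).1.2.2.2.1
  have hb4 := Groth.Agent.RedSub.H641.TypeRBc.geomIrr_of_conn hconn
  have hcl0 : IsClosedImmersion (b ≫ d).left := by
    rw [Over.comp_left]
    infer_instance
  obtain ⟨N, _, n, hncl, hn, -⟩ := CentRep.exists_normalizer (b ≫ d)
  have hbn := Agf.H588.BorelNormSch.isNormalizerOf_of_isBorel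
    (Groth.Agent.Sga3B.IsoFam.isConnected_fibre_of_isReductive hD) b hb
  refine ⟨N, inferInstance, n, hn, hn.1, hncl, ?_, fun s => ?_⟩
  · have hcov : RedCover147.IsEtCov (fun s => (L.c s).v) :=
      RedCover147.IsEtCov.of_etale _ (fun s => inferInstance) fun s => ⟨s, L.hc s⟩
    refine RedCover147.smooth_of_cover hcov fun s => ?_
    obtain ⟨R, _, ρ, h⟩ := exists_RCov_local hG L hd s
    have h1 := _root_.K501.NormPts.isNormalizerOf_bc (L.c s).v hbn
    have h2 := _root_.K501.NormPts.isNormalizerOf_bc (L.c s).v hn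
    rw [Functor.map_comp] at h2
    have h3 : Smooth (Red.bc (L.c s).v B').hom := inferInstanceAs (Smooth (pullback.snd B'.hom (L.c s).v))
    have h4 : Mono ((Over.pullback (L.c s).v).map d : Red.bc (L.c s).v D ⟶ Red.bc (L.c s).v G) := inferInstance
    exact smooth_norm h h1 h2
  · obtain ⟨C', _, q', hq', L', hd'⟩ := DerCent.exists_LQ_bc hG L hd (Red.geomPt s)
    obtain ⟨R, _, ρ, h⟩ := exists_RCov_field (RedBc892U.isReductive_bc (Red.geomPt s) hG) L' hd'
    have h2 := _root_.K501.NormPts.isNormalizerOf_bc (Red.geomPt s) hn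
    rw [Functor.map_comp] at h2
    exact isBorelOver_norm (RedBc892U.isReductive_bc (Red.geomPt s) hG) L' hd' h (hb.2.2.2 s) h2
      (RedCover147.isClosedImmersion_bc (Red.geomPt s) hncl)

end baseA

end K197.BorDer
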