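import Groth.Agent.RedSub.K197.BorSec
import Groth.Agent.Agf.H588.BorelNormSch
import Groth.Agent.AlgGrp.K411.SpecReg
import Groth.Agent.Redsub.H673.SolvBor
import Groth.Agent.S0115

/-!
# The normalizer in `G` of a Borel subgroup of the derived group
`RCov ρ d` : `ρ : R ⟶ G` central and `R × D ⟶ G` an fppf covering.
-/

set_option autoImplicit false
set_option linter.unusedSectionVars false
universe u

open CategoryTheory MonoidalCategory CartesianMonoidalCategory MonObj GrpObj AlgebraicGeometry Limits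

namespace K197.BorNorm

open Groth.Agent Groth.Agent.Sga3B Groth.Agent.Sga3B.DSPts Groth.Agent.RedSub.H654.Coradical
  Groth.Agent.Sga3B.Parab

variable {S : Scheme.{u}} {G D R B' N : Over S} [GrpObj G] [GrpObj D] [GrpObj R] [GrpObj B'] [GrpObj N]

/-- `ρ : R ⟶ G` central and `R × D ⟶ G` an fppf covering -/
structure RCov (ρ : R ⟶ G) (d : D ⟶ G) : Prop where
  hom : IsMonHom ρ
  central : ∀ (X : Over S) (x : X ⟶ R) (g : X ⟶ G), (x ≫ ρ) * g = g * (x ≫ ρ)
  cov : Fppf.IsCov ((ρ ⊗ₘ d) ≫ μ[G])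
  smooth : Smooth R.hom
  irr : GeometricallyIrreducible R.hom

lemma RCov.exists_local {ρ : R ⟶ G} {d : D ⟶ G} (h : RCov ρ d) {X : Over S} (g : X ⟶ G) :
    ∃ (X' : Over S) (c : X' ⟶ X) (r : X' ⟶ R) (δ : X' ⟶ D), Fppf.IsCov c ∧
      c ≫ g = (r ≫ ρ) * (δ ≫ d) := by
  obtain ⟨T', c, x, hc, hx⟩ := Fppf.exists_lift_local h.cov g
  refine ⟨T', c, x ≫ fst _ _, x ≫ snd _ _, hc, ?_⟩
  rw [← hx, RadDer.tensorHom_mul, MonObj.comp_mul]
  simp only [Category.assoc]

lemma conj_central {A : Type*} [Group A] {a b u : A} (h : ∀ g, a * g = g * a) :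
    (a * b) * u * (a * b)⁻¹ = b * u * b⁻¹ := by
  rw [show (a * b) * u * (a * b)⁻¹ = a * (b * u * b⁻¹) * a⁻¹ by group, h, mul_inv_cancel_right]

lemma conj_central' {A : Type*} [Group A] {a b u : A} (h : ∀ g, a * g = g * a) :
    (a * b)⁻¹ * u * (a * b) = b⁻¹ * u * b := by
  rw [show (a * b)⁻¹ * u * (a * b) = b⁻¹ * (a⁻¹ * (u * a)) * b by group, ← h, inv_mul_cancel_left]

section norm

variable {ρ : R ⟶ G} {d : D ⟶ G} [IsMonHom d] [Mono d] (h : RCov ρ d) {b : B' ⟶ D} [IsMonHom b]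
  (hb : Red.IsNormalizerOf b b) {n : N ⟶ G} (hn : Red.IsNormalizerOf (b ≫ d) n)

include h hn in
lemma exists_cR : ∃ c : R ⟶ N, c ≫ n = ρ :=
  (hn.2.2 R ρ).2 fun X' x y => ⟨⟨y, by rw [h.central, mul_inv_cancel_right]⟩,
    ⟨y, by rw [_root_.mul_assoc, ← h.central, inv_mul_cancel_left]⟩⟩

include hn in
lemma exists_cB : ∃ c : B' ⟶ N, c ≫ n = b ≫ d :=
  (hn.2.2 B' (b ≫ d)).2 fun X' x y => ⟨⟨x * y * x⁻¹, by simp only [MonObj.mul_comp, GrpObj.inv_comp]⟩,
    ⟨x⁻¹ * y * x, by simp only [MonObj.mul_comp, GrpObj.inv_comp]⟩⟩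

include h hb hn in
/-- the points of `N` which are products -/
lemma exists_of_mul {X : Over S} (r : X ⟶ R) (δ : X ⟶ D) (z : X ⟶ N) (hz : (r ≫ ρ) * (δ ≫ d) = z ≫ n) :
    ∃ β : X ⟶ B', β ≫ b = δ := by
  refine (hb.2.2 X δ).2 fun X' x y => ?_
  obtain ⟨⟨y₁, h1⟩, ⟨y₂, h2⟩⟩ := (hn.2.2 X (z ≫ n)).1 ⟨z, rfl⟩ X' x y
  rw [← hz, MonObj.comp_mul] at h1 h2
  have hc := h.central X' (x ≫ r)
  simp only [Category.assoc] at hc
  rw [conj_central hc] at h1
  rw [conj_central' hc] at h2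
  refine ⟨⟨y₁, ?_⟩, ⟨y₂, ?_⟩⟩
  · rw [← cancel_mono d, MonObj.mul_comp, MonObj.mul_comp, GrpObj.inv_comp]
    simpa only [Category.assoc] using h1
  · rw [← cancel_mono d, MonObj.mul_comp, MonObj.mul_comp, GrpObj.inv_comp]
    simpa only [Category.assoc] using h2

include h hb hn in
/-- `R × B' ⟶ N` is an fppf covering -/
theorem exists_cov : ∃ m : R ⊗ B' ⟶ N, Fppf.IsCov m ∧
    m ≫ n = (fst _ _ ≫ ρ) * (snd _ _ ≫ b ≫ d) := by
  obtain ⟨cR, hR⟩ := exists_cR h hn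
  obtain ⟨cB, hB⟩ := exists_cB hn
  have hn1 := hn.1
  have hn2 := hn.2.1
  have hb2 := hb.2.1
  have hm : ((cR ⊗ₘ cB) ≫ μ[N]) ≫ n = (fst _ _ ≫ ρ) * (snd _ _ ≫ b ≫ d) := by
    rw [RadDer.tensorHom_mul, MonObj.mul_comp, Category.assoc, Category.assoc, hR, hB]
  refine ⟨(cR ⊗ₘ cB) ≫ μ[N], ?_, hm⟩
  refine Fppf.IsCov.of_isPullback (f := R ◁ b) (h := (ρ ⊗ₘ d) ≫ μ[G]) (k := n) ?_ h.cov
  have e : ∀ {T : Over S} (a : T ⟶ R ⊗ B'), a ≫ (R ◁ b) = lift (a ≫ fst _ _) ((a ≫ snd _ _) ≫ b) := by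
    intro T a
    apply CartesianMonoidalCategory.hom_ext <;> simp
  refine QuotPts.isPullback_of_pts ?_ ?_ ?_
  · rw [hm, RadDer.tensorHom_mul, MonObj.comp_mul]
    congr 1 <;> simp
  · intro T x y hxy
    rw [RadDer.tensorHom_mul, MonObj.comp_mul] at hxy
    obtain ⟨β, hβ⟩ := exists_of_mul h hb hn (x ≫ fst _ _) (x ≫ snd _ _) y (by
      simpa only [Category.assoc] using hxy)
    refine ⟨lift (x ≫ fst _ _) β, ?_, ?_⟩
    · rw [e, lift_fst, lift_snd, hβ]
      apply CartesianMonoidalCategory.hom_ext <;> simp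
    · rw [← cancel_mono n, Category.assoc, hm, MonObj.comp_mul, lift_fst_assoc, lift_snd_assoc, ← hxy,
        ← Category.assoc β, hβ]
      simp only [Category.assoc]
  · intro T a a' h1 _
    rw [e, e] at h1
    have h2 := congrArg (· ≫ fst _ _) h1
    have h3 := congrArg (· ≫ snd _ _) h1
    simp only [lift_fst, lift_snd] at h2 h3
    apply CartesianMonoidalCategory.hom_ext
    · exact h2
    · exact (cancel_mono b).1 h3

include h hb hn in
/-- local decomposition of the points of `N` -/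
theorem exists_local_mem {X : Over S} (z : X ⟶ N) : ∃ (X' : Over S) (c : X' ⟶ X) (r : X' ⟶ R)
    (β : X' ⟶ B'), Fppf.IsCov c ∧ c ≫ z ≫ n = (r ≫ ρ) * (β ≫ b ≫ d) := by
  obtain ⟨m, hm, hmn⟩ := exists_cov h hb hn
  obtain ⟨X', c, x, hc, hx⟩ := Fppf.exists_lift_local hm z
  refine ⟨X', c, x ≫ fst _ _, x ≫ snd _ _, hc, ?_⟩
  rw [← Category.assoc, ← hx, Category.assoc, hmn, MonObj.comp_mul]
  simp only [Category.assoc]

include h hb hn in
/-- the normalizer is smooth -/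
theorem smooth_norm [Smooth B'.hom] : Smooth N.hom := by
  obtain ⟨m, ⟨h1, h2, h3⟩, -⟩ := exists_cov h hb hn
  have hs := h.smooth
  have h4 : Smooth (R ⊗ B').hom := inferInstanceAs (Smooth (pullback.fst R.hom B'.hom ≫ R.hom))
  have h5 : Smooth (m.left ≫ N.hom) := by
    rw [Over.w m]
    exact h4
  exact S0115.result m.left N.hom

include h hb hn in
/-- a subobject containing `R` and `B'` contains `N` -/
theorem exists_fac_of_le {H : Over S} [GrpObj H] (k : H ⟶ G) [IsMonHom k] [Mono k] (kR : R ⟶ H)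
    (hR : kR ≫ k = ρ) (kB : B' ⟶ H) (hB : kB ≫ k = b ≫ d) : ∃ f : N ⟶ H, f ≫ k = n := by
  obtain ⟨X', c, r, β, hc, hcz⟩ := exists_local_mem h hb hn (𝟙 N)
  rw [Category.id_comp] at hcz
  refine Fppf.exists_desc_mono hc k n ((r ≫ kR) * (β ≫ kB)) ?_
  rw [hcz, MonObj.mul_comp, Category.assoc, Category.assoc, hR, hB]

lemma conn_of_surj {X Y : Over S} (m : X ⟶ Y) (hm : Surjective m.left) (hX : RedSub.HasConnectedFibres X) :
    RedSub.HasConnectedFibres Y := by
  intro s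
  have h3 : Y.hom.base ⁻¹' {s} = m.left.base '' (X.hom.base ⁻¹' {s}) := by
    ext y
    constructor
    · intro hy
      obtain ⟨x, rfl⟩ := hm.1 y
      refine ⟨x, ?_, rfl⟩
      change X.hom x = s
      rw [← Over.w m, Scheme.Hom.comp_apply]
      exact hy
    · rintro ⟨x, hx, rfl⟩
      change Y.hom (m.left x) = s
      rw [← Scheme.Hom.comp_apply, Over.w]
      exact hx
  rw [h3]
  exact (hX s).image _ m.left.continuous.continuousOn

include h hb hn in
/-- the normalizer has connected fibres -/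
theorem conn_norm [Smooth B'.hom] (hc : RedSub.HasConnectedFibres B') : RedSub.HasConnectedFibres N := by
  obtain ⟨m, ⟨h1, h2, h3⟩, -⟩ := exists_cov h hb hn
  have hs := h.smooth
  have hi := h.irr
  have hB := Groth.Agent.RedSub.H641.TypeRBc.geomIrr_of_conn hc
  have h4 : GeometricallyIrreducible (R ⊗ B').hom := by
    have h5 : GeometricallyIrreducible (pullback.fst R.hom B'.hom) := inferInstance
    have h6 : UniversallyOpen (pullback.fst R.hom B'.hom) := inferInstance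
    exact GeometricallyIrreducible.comp (pullback.fst R.hom B'.hom) R.hom
  exact conn_of_surj m h1 Groth.Agent.RedSub.H641.TypeRBc.hasConnectedFibres_of_geomIrr

include h hb hn in
/-- commutators of points of `N` are points of `B'` -/
lemma exists_comm {cB : B' ⟶ N} (hB : cB ≫ n = b ≫ d) {X : Over S} (z₁ z₂ : X ⟶ N) :
    ∃ β : X ⟶ B', β ≫ cB = z₁ * z₂ * z₁⁻¹ * z₂⁻¹ := by
  have hn1 := hn.1
  have hn2 := hn.2.1
  have hb2 := hb.2.1
  have hcm : Mono cB := by
    have : Mono (cB ≫ n) := by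
      rw [hB]
      infer_instance
    exact mono_of_mono cB n
  obtain ⟨X₁, c₁, r₁, β₁, h1, e1⟩ := exists_local_mem h hb hn z₁
  obtain ⟨X₂, c₂, r₂, β₂, h2, e2⟩ := exists_local_mem h hb hn (c₁ ≫ z₂)
  refine Fppf.exists_desc_mono (h2.comp h1) cB _ ((c₂ ≫ β₁) * β₂ * (c₂ ≫ β₁)⁻¹ * β₂⁻¹) ?_
  rw [← cancel_mono n, Category.assoc, hB]
  have hr1 := h.central X₂ (c₂ ≫ r₁)
  have hr2 := h.central X₂ r₂
  have e1' : (c₂ ≫ c₁) ≫ z₁ ≫ n = ((c₂ ≫ r₁) ≫ ρ) * ((c₂ ≫ β₁) ≫ b ≫ d) := by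
    rw [Category.assoc, e1, MonObj.comp_mul]
    simp only [Category.assoc]
  have e2' : (c₂ ≫ c₁) ≫ z₂ ≫ n = (r₂ ≫ ρ) * (β₂ ≫ b ≫ d) := by
    rw [← e2]
    simp only [Category.assoc]
  rw [MonObj.comp_mul, MonObj.comp_mul, MonObj.comp_mul, GrpObj.comp_inv, GrpObj.comp_inv]
  simp only [MonObj.mul_comp, GrpObj.inv_comp]
  rw [Category.assoc (c₂ ≫ c₁) z₁ n, Category.assoc (c₂ ≫ c₁) z₂ n, e1', e2']
  generalize ((c₂ ≫ r₁) ≫ ρ) = x at *
  generalize (r₂ ≫ ρ) = y at *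
  generalize ((c₂ ≫ β₁) ≫ b ≫ d) = u at *
  generalize (β₂ ≫ b ≫ d) = v at *
  have h3 : x * u * (y * v) * (x * u)⁻¹ * (y * v)⁻¹ = x * (u * y) * v * u⁻¹ * x⁻¹ * v⁻¹ * y⁻¹ := by group
  rw [h3, ← hr2 u]
  have h4 : x * (y * u) * v * u⁻¹ * x⁻¹ * v⁻¹ * y⁻¹ = x * (y * (u * v * u⁻¹ * x⁻¹ * v⁻¹)) * y⁻¹ := by group
  rw [h4, hr2, ← _root_.mul_assoc x, mul_inv_cancel_right]
  have h5 : x * (u * v * u⁻¹ * x⁻¹ * v⁻¹) = (x * (u * v * u⁻¹)) * x⁻¹ * v⁻¹ := by group
  rw [h5, hr1, mul_inv_cancel_right]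

include h hb hn in
/-- the normalizer is solvable -/
theorem isSolvableGrp_norm (hs : Red.IsSolvableGrp B') : Red.IsSolvableGrp N := by
  obtain ⟨k, hk⟩ := hs
  obtain ⟨cB, hB⟩ := exists_cB hn
  have hn1 := hn.1
  have hn2 := hn.2.1
  have hcm : IsMonHom cB := RadSplit.isMonHom_of_comp cB n (by
    rw [hB]
    infer_instance)
  refine ⟨k + 1, fun X => ?_⟩
  let φ : (X ⟶ B') →* (X ⟶ N) := MonoidHom.mk' (fun x => x ≫ cB) fun x y => MonObj.mul_comp x y cB
  have key : ∀ j : ℕ, derivedSeries (X ⟶ N) (j + 1) ≤ (derivedSeries (X ⟶ B') j).map φ := by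
    intro j
    induction j with
    | zero =>
      rw [derivedSeries_succ, Subgroup.commutator_le]
      intro z₁ _ z₂ _
      obtain ⟨β, hβ⟩ := exists_comm h hb hn hB z₁ z₂
      exact ⟨β, Subgroup.mem_top _, hβ⟩
    | succ j ih =>
      rw [derivedSeries_succ (X ⟶ N), derivedSeries_succ (X ⟶ B') j, Subgroup.map_commutator]
      exact Subgroup.commutator_mono ih ih
  have h1 := key k
  rw [hk X, Subgroup.map_bot, le_bot_iff] at h1
  exact h1

end norm

/-- schemes over a field -/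
lemma hasConnectedFibres_field {K : Type u} [Field K] (X : Over (Spec (CommRingCat.of K))) (h : ConnectedSpace X.left) :
    RedSub.HasConnectedFibres X := by
  intro s
  have : X.hom.base ⁻¹' {s} = Set.univ := by
    ext x
    simp only [Set.mem_preimage, Set.mem_singleton_iff, Set.mem_univ, iff_true]
    exact Subsingleton.elim (α := PrimeSpectrum K) _ s
  rw [this]
  exact isConnected_univ

lemma connectedSpace_field {K : Type u} [Field K] (X : Over (Spec (CommRingCat.of K)))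
    (h : RedSub.HasConnectedFibres X) : ConnectedSpace X.left := by
  have h1 := h (IsLocalRing.closedPoint K : Spec (CommRingCat.of K))
  have : X.hom.base ⁻¹' {(IsLocalRing.closedPoint K : Spec (CommRingCat.of K))} = Set.univ := by
    ext x
    simp only [Set.mem_preimage, Set.mem_univ, iff_true]
    exact Subsingleton.elim (α := PrimeSpectrum K) _ _
  refine connectedSpace_iff_univ.2 ?_
  convert h1 using 1
  exact this.symm

section field

variable {K : Type u} [Field K] [IsAlgClosed K] {G D R B' N C₁ : Over (Spec (CommRingCat.of K))}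
  [GrpObj G] [GrpObj D] [GrpObj R] [GrpObj B'] [GrpObj N] [GrpObj C₁]

/-- **the normalizer in `G` of a Borel subgroup of `D` is a Borel subgroup**, over a field -/
theorem isBorelOver_norm (hG : Red.IsReductive G) {q : G ⟶ C₁} [IsMonHom q]
    (L : LQ q) {d : D ⟶ G} [IsMonHom d] (hd : AlgGrp.IsKernel d q) {ρ : R ⟶ G} (h : RCov ρ d)
    {b : B' ⟶ D} (hb : Red.IsBorelOver K b) {n : N ⟶ G} (hn : Red.IsNormalizerOf (b ≫ d) n)
    (hncl : IsClosedImmersion n.left) : Red.IsBorelOver K n := by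
  have hdm := SecKer.mono_of_isKernel hd
  have hdq := SecKer.comp_eq_one_of_isKernel hd
  have hdcl := BorSec.isClosedImmersion_ker L hd
  have hD := BorSec.isReductive_der hG L hd
  have hDaff : IsAffineHom D.hom := hD.1
  have hDsm : Smooth D.hom := hD.2.1
  have hDl : IsAffine D.left := isAffine_of_isAffineHom D.hom
  have hbB : Red.IsBorel b := AlgBc.isBorel_iff.2 hb
  have hbn := Agf.H588.BorelNormSch.isNormalizerOf_of_isBorel
    (Groth.Agent.Sga3B.IsoFam.isConnected_fibre_of_isReductive hD) b hbB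
  have hb1 : IsMonHom b := hb.1
  have hb2 := hb.2.1
  have hbm : Mono b := hbn.2.1
  have hBsm : Smooth B'.hom := hb.2.2.1
  have hBc := hb.2.2.2.1
  have hn1 := hn.1
  have hn2 := hn.2.1
  refine ⟨hn1, hncl, smooth_norm h hbn hn, connectedSpace_field _ (conn_norm h hbn hn
    (hasConnectedFibres_field _ hBc)), isSolvableGrp_norm h hbn hn hb.2.2.2.2.1, ?_⟩
  intro B₂ _ i₂ _ f hcl hs hc hsolv hf
  have hi₂m : Mono i₂ := Over.mono_of_mono_left i₂
  have hB'a : IsAffine B'.left := isAffine_of_isAffineHom b.left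
  obtain ⟨T', _, t', ht', -⟩ := RG.BrHc.exists_isMaximalTorus B'
  obtain ⟨hb', -⟩ := Parab.PbFinal.dynK2B K D B' b (AlgBc.isReductive_iff.1 hD) hb T' t' ht'
  obtain ⟨T, _, i, hiC, hi⟩ := DerCent.exists_cent hG L hd hb'
  obtain ⟨cR, hR⟩ := exists_cR h hn
  obtain ⟨cB, hB⟩ := exists_cB hn
  -- `T` is contained in `N`
  obtain ⟨tN, htN⟩ : ∃ tN : T ⟶ N, tN ≫ n = i := by
    obtain ⟨X, c, r, δ, hc, e⟩ := h.exists_local i
    have hself := TorClosed636.isCentralizerOf_self hD hb'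
    obtain ⟨τ, hτ⟩ := (hself.2.2 X δ).2 (by
      intro X' x y
      rw [← cancel_mono d, MonObj.mul_comp, MonObj.mul_comp]
      simp only [Category.assoc]
      have h1 := (hiC.2.2 T i).1 ⟨𝟙 _, Category.id_comp _⟩ X' (x ≫ c) y
      simp only [Category.assoc] at h1
      rw [e, MonObj.comp_mul] at h1
      have h2 := h.central X' (x ≫ r) (y ≫ t' ≫ b ≫ d)
      simp only [Category.assoc] at h2
      rw [← _root_.mul_assoc, ← h2, _root_.mul_assoc, _root_.mul_assoc] at h1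
      exact mul_left_cancel h1)
    refine Fppf.exists_desc_mono hc n i ((r ≫ cR) * ((τ ≫ t') ≫ cB)) ?_
    rw [e, MonObj.mul_comp, Category.assoc, Category.assoc, hR, hB, ← hτ]
    simp only [Category.assoc]
  have ht₂ : (tN ≫ f) ≫ i₂ = i := by rw [Category.assoc, hf, htN]
  have hGaff : IsAffineHom G.hom := hG.1
  have hB₂aff : IsAffineHom B₂.hom := by
    rw [← Over.w i₂]
    infer_instance
  have htypeR : RedSub.IsTypeR i₂ := Groth.Agent.RedSub.H641.TypeRBc.isTypeR_of_torus hG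
    ⟨inferInstance, inferInstance⟩ hs inferInstance (hasConnectedFibres_field _ hc) (tN ≫ f)
    (ht₂.symm ▸ hi)
  obtain ⟨hgrp, hf1, hf2⟩ := K16.PreimMain.exists_grp d i₂
  have hsq := IsPullback.of_hasPullback i₂ d
  have hPcl : IsClosedImmersion (pullback.snd i₂ d).left :=
    MorphismProperty.of_isPullback (P := @IsClosedImmersion) (hsq.map (Over.forget _)) hcl
  have hPaff : IsAffineHom (pullback i₂ d).hom := by
    rw [← Over.w (pullback.snd i₂ d)]
    infer_instance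
  obtain ⟨hPs, hPc⟩ := BorSec.smooth_conn_inter hG L hd htypeR hsq
  have hw : (cB ≫ f) ≫ i₂ = b ≫ d := by rw [Category.assoc, hf, hB]
  have hf' : IsIso (pullback.lift (cB ≫ f) b hw) :=
    hb.2.2.2.2.2 (pullback i₂ d) (pullback.snd i₂ d) _ hPcl hPs (connectedSpace_field _ hPc)
      (Groth.Agent.AlgGrp.K411.SpecReg.isSolvableGrp_of_mono (pullback.fst i₂ d) hsolv)
      (pullback.lift_snd _ _ _)
  -- points of `B₂ ∩ D`
  have key : ∀ {X : Over (Spec (CommRingCat.of K))} (u : X ⟶ B₂), u ≫ i₂ ≫ q = 1 →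
      ∃ β : X ⟶ B', u ≫ i₂ = β ≫ b ≫ d := by
    intro X u hu
    obtain ⟨δ, hδ⟩ := SecKer.exists_lift_of_isKernel hd (u ≫ i₂) (by rw [Category.assoc, hu])
    refine ⟨pullback.lift u δ hδ.symm ≫ inv (pullback.lift (cB ≫ f) b hw), ?_⟩
    have h1 : inv (pullback.lift (cB ≫ f) b hw) ≫ b = pullback.snd i₂ d := by
      rw [IsIso.inv_comp_eq, pullback.lift_snd]
    rw [Category.assoc, reassoc_of% h1, pullback.lift_snd_assoc, hδ]
  obtain ⟨g, hg⟩ := (hn.2.2 B₂ i₂).2 (by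
    intro X' x y
    have hy : (y ≫ cB ≫ f) ≫ i₂ = y ≫ b ≫ d := by
      rw [Category.assoc, Category.assoc, hf, hB]
    have hyq : (y ≫ cB ≫ f) ≫ i₂ ≫ q = 1 := by
      rw [← Category.assoc (y ≫ cB ≫ f), hy, Category.assoc, Category.assoc, hdq, MonObj.comp_one,
        MonObj.comp_one]
    constructor
    · obtain ⟨β, hβ⟩ := key (x * (y ≫ cB ≫ f) * x⁻¹) (by
        rw [MonObj.mul_comp, MonObj.mul_comp, hyq, _root_.mul_one, GrpObj.inv_comp, mul_inv_cancel])
      refine ⟨β, ?_⟩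
      rw [← hβ, MonObj.mul_comp, MonObj.mul_comp, GrpObj.inv_comp, hy]
    · obtain ⟨β, hβ⟩ := key (x⁻¹ * (y ≫ cB ≫ f) * x) (by
        rw [MonObj.mul_comp, MonObj.mul_comp, hyq, _root_.mul_one, GrpObj.inv_comp, inv_mul_cancel])
      refine ⟨β, ?_⟩
      rw [← hβ, MonObj.mul_comp, MonObj.mul_comp, GrpObj.inv_comp, hy])
  refine ⟨g, ?_, ?_⟩
  · rw [← cancel_mono n, Category.assoc, hg, hf, Category.id_comp]
  · rw [← cancel_mono i₂, Category.assoc, hf, hg, Category.id_comp]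

end field

end K197.BorNorm
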