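import Groth.Agent.RedSub.K197.DerSubTor
import Groth.Agent.RedSub.H648.TypeR

/-!
# Intersections of closed subgroups of type (R) with the derived group
`isTypeR_inter`: `i : H ⟶ G` closed of type (R), then `H ∩ D` is of type (R) in `D`.
`isReductive_der` : the derived group is reductive.
-/

set_option autoImplicit false
set_option linter.unusedSectionVars false
universe u

open CategoryTheory MonoidalCategory CartesianMonoidalCategory MonObj GrpObj AlgebraicGeometry Limits

namespace K197.BorSec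

open Groth.Agent Groth.Agent.Sga3B Groth.Agent.Sga3B.DSPts Groth.Agent.RedSub.H654.Coradical
  Groth.Agent.Sga3B.Parab

/-- connectedness of a fibre can be checked after base change -/
lemma isConnected_fibre_of_bc {S U : Scheme.{u}} (f : U ⟶ S) (X : Over S) (x : U)
    (h : _root_.IsConnected ((Red.bc f X).hom.base ⁻¹' {x})) :
    _root_.IsConnected (X.hom.base ⁻¹' {f x}) := by
  have h1 : X.hom.base ⁻¹' {f x} =
      (pullback.fst X.hom f).base '' ((Red.bc f X).hom.base ⁻¹' {x}) := by
    ext p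
    constructor
    · intro hp
      obtain ⟨p', h1, h2⟩ := Scheme.Pullback.exists_preimage_pullback (f := X.hom) (g := f) p x hp
      exact ⟨p', h2, h1⟩
    · rintro ⟨p', hp', rfl⟩
      change X.hom (pullback.fst X.hom f p') = f x
      rw [← Scheme.Hom.comp_apply, pullback.condition, Scheme.Hom.comp_apply]
      exact congrArg f hp'
  rw [h1]
  exact h.image _ (pullback.fst X.hom f).continuous.continuousOn

lemma isConnected_fibre_retract {S : Scheme.{u}} {H K : Over S} (k : K ⟶ H) (r : H ⟶ K) (h : k ≫ r = 𝟙 _)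
    (hH : RedSub.HasConnectedFibres H) : RedSub.HasConnectedFibres K := by
  intro s
  have h3 : K.hom.base ⁻¹' {s} = r.left.base '' (H.hom.base ⁻¹' {s}) := by
    ext x
    constructor
    · intro hx
      refine ⟨k.left.base x, ?_, ?_⟩
      · change H.hom (k.left x) = s
        rw [← Scheme.Hom.comp_apply, Over.w]
        exact hx
      · rw [← Scheme.Hom.comp_apply, ← Over.comp_left, h]
        rfl
    · rintro ⟨y, hy, rfl⟩
      change K.hom (r.left y) = s
      rw [← Scheme.Hom.comp_apply, Over.w]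
      exact hy
  rw [h3]
  exact (hH s).image _ r.left.continuous.continuousOn

section loc

variable {V : Scheme.{u}} {G H K : Over V} [GrpObj G] [GrpObj H] (E : Red.SplitRed G) (N : AddSubgroup E.M)
  {f : G ⟶ Red.DS V N} (hf : SplitChar.IsChar E N f)

include hf in
/-- the kernel of the character on a subgroup containing the torus is a retract -/
theorem exists_retr_sub {i : H ⟶ G} [IsMonHom i] [Mono i] (t : E.T ⟶ H) (ht : t ≫ i = E.i) {k : K ⟶ H}
    (hk : AlgGrp.IsKernel k (i ≫ f)) : ∃ r : H ⟶ K, k ≫ r = 𝟙 _ := by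
  obtain ⟨τ, hτ, hτf⟩ := hf.sec
  have hEi : IsMonHom E.i := E.maximalTorus.1
  have hfm := hf.hom
  have htm : IsMonHom t := RadSplit.isMonHom_of_comp t i (ht.symm ▸ hEi)
  obtain ⟨r, -, hr⟩ := SecKer.exists_retr (i ≫ f) (τ ≫ t) (by
    rw [Category.assoc, reassoc_of% ht, hτf]) hk
  exact ⟨r, hr⟩

end loc

section base

variable {S : Scheme.{u}} {G D H C₁ K : Over S} [GrpObj G] [GrpObj D] [GrpObj H] [GrpObj C₁] [GrpObj K]

/-- étale-locally `H ∩ D` is a retract of `H` -/
theorem exists_retr_local (hG : Red.IsReductive G) {q : G ⟶ C₁} [IsMonHom q]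
    (L : LQ q) {d : D ⟶ G} [IsMonHom d] (hd : AlgGrp.IsKernel d q) {i : H ⟶ G} (hi : RedSub.IsTypeR i)
    {a : K ⟶ H} {b : K ⟶ D} (hsq : IsPullback a b i d) (s : S) :
    ∃ (U : Scheme.{u}) (f : U ⟶ S), Etale f ∧ s ∈ Set.range f.base ∧
      ∃ r : Red.bc f H ⟶ Red.bc f K, (Over.pullback f).map a ≫ r = 𝟙 _ := by
  have hi1 : IsMonHom i := hi.1.1
  have hi2 : IsImmersion i.left := hi.1.2
  have hi3 : Mono i.left := inferInstance
  have hi4 : Mono i := Over.mono_of_mono_left i
  obtain ⟨U, f, hf, hs, E, t, ht⟩ := Groth.Agent.RedSub.H643.TypeRTorus.exists_splitRed_into hG i hi s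
  refine ⟨U, f, hf, hs, ?_⟩
  obtain ⟨F, hF⟩ := SplitChar.exists_char E (DerTorus.NS E) (DerTorus.mem_NS E)
  have hdm := SecKer.mono_of_isKernel hd
  have ham : Mono a := ⟨fun x y hxy => hsq.hom_ext hxy (by
    rw [← cancel_mono d, Category.assoc, Category.assoc, ← hsq.w, reassoc_of% hxy])⟩
  have hsq' := hsq.map (Over.pullback f)
  have hd' := CoradBc.isKernel_bc f hd
  have ham' : Mono ((Over.pullback f).map a : Red.bc f K ⟶ Red.bc f H) := inferInstance
  have hk : AlgGrp.IsKernel ((Over.pullback f).map a : Red.bc f K ⟶ Red.bc f H)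
      ((Over.pullback f).map i ≫ F) := by
    refine Corad.isKernel_of_pts ?_ fun X x hx => ?_
    · rw [← Category.assoc]
      refine (CoradBc.ker_iff L f E hF _).1 ?_
      rw [hsq'.w, Category.assoc, SecKer.comp_eq_one_of_isKernel hd', MonObj.comp_one]
    · rw [← Category.assoc] at hx
      obtain ⟨y, hy⟩ := SecKer.exists_lift_of_isKernel hd' _ ((CoradBc.ker_iff L f E hF _).2 hx)
      exact ⟨hsq'.lift x y hy.symm, hsq'.lift_fst _ _ _⟩
  exact exists_retr_sub E _ hF t ht hk

/-- **`H ∩ D` is smooth with connected fibres** -/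
theorem smooth_conn_inter (hG : Red.IsReductive G) {q : G ⟶ C₁} [IsMonHom q]
    (L : LQ q) {d : D ⟶ G} [IsMonHom d] (hd : AlgGrp.IsKernel d q) {i : H ⟶ G} (hi : RedSub.IsTypeR i)
    [IsAffineHom H.hom] [IsAffineHom K.hom]
    {a : K ⟶ H} {b : K ⟶ D} (hsq : IsPullback a b i d) :
    Smooth K.hom ∧ RedSub.HasConnectedFibres K := by
  choose U f hf hs r hr using exists_retr_local hG L hd hi hsq
  have hsm : Smooth H.hom := hi.2.1
  have hcov : RedCover147.IsEtCov f := RedCover147.IsEtCov.of_etale f (fun s => inferInstance) fun s => ⟨s, hs s⟩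
  refine ⟨RedCover147.smooth_of_cover hcov fun s => ?_, fun s => ?_⟩
  · have h1 : IsAffineHom (Red.bc (f s) H).hom :=
      MorphismProperty.pullback_snd (P := @IsAffineHom) _ _ inferInstance
    have h2 : IsAffineHom (Red.bc (f s) K).hom :=
      MorphismProperty.pullback_snd (P := @IsAffineHom) _ _ inferInstance
    have h3 : Smooth (Red.bc (f s) H).hom := inferInstanceAs (Smooth (pullback.snd H.hom (f s)))
    exact Parab.Retr.smooth_of_retract _ (r s) (hr s)
  · obtain ⟨x, hx⟩ := hs s
    have h1 := Groth.Agent.RedSub.H641.TypeRBc.hasConnectedFibres_bc (f s) hi.2.2.2.1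
    have h2 := isConnected_fibre_of_bc (f s) K x (isConnected_fibre_retract _ (r s) (hr s) h1 x)
    rwa [hx] at h2

omit [GrpObj D] in
lemma isClosedImmersion_ker {q : G ⟶ C₁} (L : LQ q) {d : D ⟶ G} (hd : AlgGrp.IsKernel d q) :
    IsClosedImmersion d.left := by
  have h1 : IsAffineHom C₁.hom := TorusAlgClosed.isAffineHom_of_isTorus L.isTorus
  have h2 : IsClosedImmersion η[C₁].left := by
    have h2 : η[C₁].left ≫ C₁.hom = 𝟙 S := Over.w η[C₁]
    have : IsClosedImmersion (η[C₁].left ≫ C₁.hom) := by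
      rw [h2]; exact (inferInstance : IsClosedImmersion (𝟙 S))
    exact IsClosedImmersion.of_comp _ C₁.hom
  exact MorphismProperty.of_isPullback (P := @IsClosedImmersion) (hd.map (Over.forget S)).flip h2

/-- a reductive group is a subgroup of type (R) of itself -/
lemma isTypeR_id (hG : Red.IsReductive G) : RedSub.IsTypeR (𝟙 G) := by
  have h1 : IsAffineHom G.hom := hG.1
  have h2 : Smooth G.hom := hG.2.1
  refine ⟨⟨inferInstance, inferInstanceAs (IsImmersion (𝟙 G.left))⟩, h2, inferInstance,
    Groth.Agent.Sga3B.IsoFam.isConnected_fibre_of_isReductive hG, fun s => ?_⟩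
  have h3 : IsAffineHom (Red.geomFibre s G).hom :=
    MorphismProperty.pullback_snd (P := @IsAffineHom) _ _ h1
  have h5 : Smooth (Red.geomFibre s G).hom :=
    inferInstanceAs (Smooth (Limits.pullback.snd G.hom (Red.geomPt s)))
  have h6 : IsAffine (Red.geomFibre s G).left := isAffine_of_isAffineHom (Red.geomFibre s G).hom
  obtain ⟨T, _, t, ht, -⟩ := RG.BrHc.exists_isMaximalTorus (Red.geomFibre s G)
  refine ⟨T, inferInstance, t, ht.1, ?_⟩
  rw [CategoryTheory.Functor.map_id, Category.comp_id]
  exact ht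

/-- **the derived group is closed and reductive** -/
theorem isReductive_der (hG : Red.IsReductive G) {q : G ⟶ C₁} [IsMonHom q]
    (L : LQ q) {d : D ⟶ G} [IsMonHom d] (hd : AlgGrp.IsKernel d q) : Red.IsReductive D := by
  have h0 := isClosedImmersion_ker L hd
  have h1 : IsAffineHom G.hom := hG.1
  have h2 : IsAffineHom D.hom := by
    rw [← Over.w d]
    infer_instance
  obtain ⟨h3, h4⟩ := smooth_conn_inter hG L hd (isTypeR_id hG) (a := d) (b := 𝟙 D)
    (IsPullback.of_vert_isIso ⟨by simp⟩)
  exact (DerSub.main hG L hd d (𝟙 D) (Category.id_comp _) h4).2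

end base

end K197.BorSec
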