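import Groth.Agent.RedSub.H654.Kill
import Groth.Agent.Sga3B.ChartEx

/-!
# Root groups are killed by homomorphisms to commutative groups

* `f_uu` : a natural homomorphism from the points of a datum to a commutative group functor kills the
  root groups.
* `u_comp_eq_one` : `D.u a ≫ f = 1` for every homomorphism `f : G ⟶ A` to a commutative `S`-group.
* `ptExt` : to compare two morphisms it suffices to compare them on the points `tB s R`.
-/

set_option autoImplicit false
set_option linter.unusedSectionVars false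
universe u

open CategoryTheory MonoidalCategory CartesianMonoidalCategory MonObj GrpObj AlgebraicGeometry Limits

namespace K197.CharTriv

open Groth.Agent.Sga3B Groth.Agent.Sga3B.Cell Groth.Agent.Sga3B.PinMod Groth.Agent.Sga3B.DSPts
  Groth.Agent.Sga3B.GaPts Groth.Agent.RedSub.H654.UnivPt Groth.Agent.RedSub.H654.SchemeChar

section alg

variable {R A : Type u} [CommRing R] [CommRing A] [Algebra R A] [PtGrp R A] (E : Datum R A)
  {H : CommFun R} (F : CommHom H A)

/-- **root groups are killed** -/
theorem f_uu (c : E.idx) {B : Type u} [CommRing B] [Algebra R B] (x : B) :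
    F.f B (E.uu c B x) = 1 := by
  rcases subsingleton_or_nontrivial B with hB | hB
  · rw [Subsingleton.elim x 0, E.uu_zero, map_one]
  obtain ⟨B₁, _, _, hff, v, w, hvw⟩ := exists_unit_sub_one B
  obtain ⟨B₂, _, _, hff', -, t, ht⟩ := TorusScale.exists_torusPoint (R := B₁) (M := E.M)
    (κ := Unit) (fun _ => E.root c) (linearIndependent_unique_iff.mpr (E.root_ne c))
    (fun _ => v)
  have ht := ht ()
  let _ : Algebra B B₂ := ((algebraMap B₁ B₂).comp (algebraMap B B₁)).toAlgebra
  have : IsScalarTower B B₁ B₂ := IsScalarTower.of_algebraMap_eq fun r => rfl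
  have : Module.FaithfullyFlat B B₂ := Module.FaithfullyFlat.trans B B₁ B₂
  let _ : Algebra R B₂ := ((algebraMap B B₂).comp (algebraMap R B)).toAlgebra
  have : IsScalarTower R B B₂ := IsScalarTower.of_algebraMap_eq fun r => rfl
  apply F.eq_one_of_ff (T := B₂)
  rw [E.uu_nat]
  set x' : B₂ := IsScalarTower.toAlgHom R B B₂ x with hx'
  have hw : TPt.ch (E.root c) t - 1 = algebraMap B₁ B₂ (w : B₁) := by
    rw [ht, ← hvw, map_sub, map_one]
  let y : B₂ := algebraMap B₁ B₂ ((w⁻¹ : B₁ˣ) : B₁) * x'
  have hy : x' = TPt.ch (E.root c) t * y + -y := by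
    have h1 : algebraMap B₁ B₂ (w : B₁) * algebraMap B₁ B₂ ((w⁻¹ : B₁ˣ) : B₁) = 1 := by
      rw [← map_mul, Units.mul_inv, map_one]
    have h2 : x' = (TPt.ch (E.root c) t - 1) * y := by
      rw [hw, ← _root_.mul_assoc, h1, _root_.one_mul]
    rw [h2]
    ring
  rw [hy, E.uu_add, E.uu_neg, ← E.rel, map_mul, map_mul, map_mul, map_inv, map_inv,
    H.comm B₂ (F.f B₂ (E.i B₂ t)) (F.f B₂ (E.uu c B₂ y)), mul_inv_cancel_right, mul_inv_cancel]

end alg

section sch

variable {S : Scheme.{u}}

/-- the canonical isomorphism between `Spec R` as an `R`-algebra point and `Spec R` -/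
noncomputable def kap {R : CommRingCat.{u}} (s : Spec R ⟶ S) : tB (R := R) s R ≅ Over.mk s :=
  Over.isoMk (Iso.refl _) (by
    change 𝟙 _ ≫ s = Spec.map (CommRingCat.ofHom (RingHom.id R)) ≫ s
    rw [show CommRingCat.ofHom (RingHom.id R) = 𝟙 _ from rfl, Spec.map_id]
    rfl)

/-- morphisms can be compared on the points `tB s R` -/
theorem ptExt {X Y : Over S} {f g : X ⟶ Y}
    (h : ∀ (R : Type u) [CommRing R] (s : Spec (CommRingCat.of R) ⟶ S) (x : tB s R ⟶ X),
      x ≫ f = x ≫ g) : f = g := by
  apply AffYoneda.hom_ext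
  intro R s x
  have h1 := h R s ((kap s).hom ≫ x)
  rw [Category.assoc, Category.assoc] at h1
  exact (cancel_epi (kap s).hom).1 h1

variable {G : Over S} [GrpObj G]

/-- the natural homomorphism of points given by a homomorphism to a commutative group -/
noncomputable def comHom {R : Type u} [CommRing R] {s : Spec (CommRingCat.of R) ⟶ S} (c : Chart G s)
    {A : Over S} [GrpObj A] (hA : ∀ (X : Over S) (x y : X ⟶ A), x * y = y * x)
    (f : G ⟶ A) [IsMonHom f] : CommHom (funOf A hA s) c.A where
  f B _ _ := MonoidHom.mk' (fun g => c.pts B g ≫ f) (fun g h => by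
    rw [map_mul]
    exact MonObj.mul_comp _ _ f)
  nat {B C} _ _ _ _ φ g := by
    change tMap s φ ≫ c.pts B g ≫ f = c.pts C (Pt.map φ g) ≫ f
    rw [← Category.assoc, c.pts_nat]

/-- **Root groups are killed by homomorphisms to commutative groups.** -/
theorem u_comp_eq_one (D : Red.SplitRed G) {A : Over S} [GrpObj A]
    (hA : ∀ (X : Over S) (x y : X ⟶ A), x * y = y * x) (f : G ⟶ A) [IsMonHom f] (a : D.idx) :
    D.u a ≫ f = 1 := by
  have haff : IsAffineHom G.hom := D.reductive.1
  apply ptExt
  intro R _ s x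
  obtain ⟨c⟩ := exists_chart G s
  obtain ⟨y, hy⟩ := exists_gaPt s x
  rw [MonObj.comp_one, hy, ← Category.assoc, ← c.pts_uu D a y]
  exact f_uu (c.datum D) (comHom c hA f) a y

end sch

end K197.CharTriv
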