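import Groth.Agent.RedSub.K197.DerTorus
import Groth.Agent.RedSub.K195.CentTor
import Groth.Agent.RedSub.H653.BorelZ
import Groth.Agent.SGA3x.K16.PreimMain
import Groth.Agent.S3006

/-!
# The centralizer in `G` of a maximal torus of the derived group
`d : D ⟶ G` the kernel of `q`, `LQ q`, `b : T' ⟶ D` a maximal torus.
* `exists_centralizer` : the centralizer of `T'` in `G` is a maximal torus.
-/

set_option autoImplicit false
set_option linter.unusedSectionVars false
universe u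

open CategoryTheory MonoidalCategory CartesianMonoidalCategory MonObj GrpObj AlgebraicGeometry Limits

namespace K197.DerCent

open Groth.Agent Groth.Agent.Sga3B Groth.Agent.Sga3B.DSPts Groth.Agent.RedSub.H654.Coradical

section cent

variable {S : Scheme.{u}} {G H H' Z Z' : Over S} [GrpObj G] [GrpObj Z] [GrpObj Z']

lemma cent_iso {h : H ⟶ G} {z : Z ⟶ G} {z' : Z' ⟶ G} (hz : Red.IsCentralizerOf h z)
    (hz' : Red.IsCentralizerOf h z') : ∃ e : Z ≅ Z', e.hom ≫ z' = z := by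
  have hm := hz.2.1
  have hm' := hz'.2.1
  obtain ⟨e₁, h1⟩ := (hz'.2.2 Z z).2 ((hz.2.2 Z z).1 ⟨𝟙 _, Category.id_comp _⟩)
  obtain ⟨e₂, h2⟩ := (hz.2.2 Z' z').2 ((hz'.2.2 Z' z').1 ⟨𝟙 _, Category.id_comp _⟩)
  exact ⟨⟨e₁, e₂, by rw [← cancel_mono z, Category.assoc, h2, h1, Category.id_comp],
    by rw [← cancel_mono z', Category.assoc, h1, h2, Category.id_comp]⟩, h1⟩

lemma cent_of_iso {h : H ⟶ G} {z : Z ⟶ G} (w : H' ⟶ H) [IsIso w] (hz : Red.IsCentralizerOf h z) :
    Red.IsCentralizerOf (w ≫ h) z := by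
  refine ⟨hz.1, hz.2.1, fun X g => (hz.2.2 X g).trans ⟨fun hg X' x y => ?_, fun hg X' x y => ?_⟩⟩
  · have := hg X' x (y ≫ w)
    rwa [Category.assoc] at this
  · have := hg X' x (y ≫ inv w)
    rwa [Category.assoc, IsIso.inv_hom_id_assoc] at this

/-- a commutative centralizer of a subgroup of itself is self-centralizing -/
lemma cent_self {h : H ⟶ G} {z : Z ⟶ G} (hz : Red.IsCentralizerOf h z) (c : H ⟶ Z) (hc : c ≫ z = h)
    (hcomm : ∀ (X : Over S) (x y : X ⟶ Z), x * y = y * x) : Red.IsCentralizerOf z z := by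
  have hzm := hz.1
  refine ⟨hz.1, hz.2.1, fun X g => ⟨?_, fun hg => (hz.2.2 X g).2 fun X' x y => ?_⟩⟩
  · rintro ⟨w, rfl⟩ X' x y
    rw [← Category.assoc x w, ← MonObj.mul_comp, ← MonObj.mul_comp, hcomm]
  · have := hg X' x (y ≫ c)
    rwa [Category.assoc, hc] at this

end cent

section field

variable {K : Type u} [Field K] [IsAlgClosed K] {G D T' Z C₁ : Over (Spec (CommRingCat.of K))}
  [GrpObj G] [GrpObj D] [GrpObj T'] [GrpObj Z] [GrpObj C₁]

theorem isTorus_cent_field (hG : Red.IsReductive G) {q : G ⟶ C₁} [IsMonHom q] (L : LQ q) {d : D ⟶ G}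
    [IsMonHom d] (hd : AlgGrp.IsKernel d q) {b : T' ⟶ D} (hb : Red.IsMaximalTorus b) {z : Z ⟶ G}
    (hz : Red.IsCentralizerOf (b ≫ d) z) : Red.IsTorus Z := by
  have hdm := SecKer.mono_of_isKernel hd
  have hb1 := hb.1
  have hb2 := hb.2.1
  have hZ := Agf.H600.CentRedK.isReductive_of_isCentralizerOf hG (b ≫ d) hb.2.2.1 z hz
  have h4 : IsAffineHom Z.hom := hZ.1
  have h5 : Smooth Z.hom := hZ.2.1
  have h6 : IsAffine Z.left := isAffine_of_isAffineHom Z.hom
  obtain ⟨T₀, _, t, ht, -⟩ := RG.BrHc.exists_isMaximalTorus Z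
  have ht0 := K195.CentTor.isMaximalTorus_of_centralizer hG (b ≫ d) hb.2.2.1 z hz t ht
  obtain ⟨c, hc⟩ := K195.CentTor.exists_fac hG (b ≫ d) hb.2.2.1 z hz t ht
  have hzm := hz.1
  have htm := ht0.1
  have htmono := ht0.2.1
  obtain ⟨hgrp, hf1, hf2⟩ := K16.PreimMain.exists_grp d (t ≫ z)
  have hsq := IsPullback.of_hasPullback (t ≫ z) d
  have hP := DerTorus.isTorus_inter L hd ht0 hsq hG
  have hcent := DerTorus.isCentralizerOf_inter L hd ht0 hsq hG
  have hsm : Mono (pullback.snd (t ≫ z) d) := inferInstance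
  have hw := RadSplit.isIso_of_max b hb hP (pullback.lift c b hc) (pullback.snd (t ≫ z) d)
    (pullback.lift_snd _ _ _)
  have h7 := cent_of_iso (pullback.lift c b hc) hcent
  rw [pullback.lift_snd_assoc] at h7
  obtain ⟨e, he⟩ := cent_iso h7 hz
  have hzmono := hz.2.1
  have hem : IsMonHom e.hom := RadSplit.isMonHom_of_comp e.hom z (he.symm ▸ htm)
  exact TorusBc.isTorus_of_iso (Grp.mkIso e (IsMonHom.one_hom e.hom) (IsMonHom.mul_hom e.hom)) ht0.2.2.1

end field

section base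

variable {S : Scheme.{u}} {G D C : Over S} [GrpObj G] [GrpObj D] [GrpObj C]

/-- the base change of a pinned derived group: `LQ` and the kernel condition -/
theorem exists_LQ_bc (hG : Red.IsReductive G) {C₁ : Over S} [GrpObj C₁] {q : G ⟶ C₁} [IsMonHom q] (L : LQ q)
    {d : D ⟶ G} [IsMonHom d] (hd : AlgGrp.IsKernel d q) {W : Scheme.{u}} (w : W ⟶ S) :
    ∃ (C' : Over W) (_ : GrpObj C') (q' : Red.bc w G ⟶ C') (_ : IsMonHom q') (_ : LQ q'),
      AlgGrp.IsKernel ((Over.pullback w).map d : Red.bc w D ⟶ Red.bc w G) q' := by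
  obtain ⟨C', _, q', hq', ⟨L'⟩⟩ := exists_LQ (RedBc892U.isReductive_bc w hG)
  exact ⟨C', inferInstance, q', hq', L', Corad.isKernel_of L' (CoradBc.comm_bc w (Corad.comm_of_LQ L))
    (CoradBc.isKernel_bc w hd) (CoradBc.killed_bc L hd w)⟩

/-- **the centralizer of a maximal torus of the derived group is a maximal torus** -/
theorem isMaximalTorus_cent (hG : Red.IsReductive G) {C₁ : Over S} [GrpObj C₁] {q : G ⟶ C₁} [IsMonHom q]
    (L : LQ q) {d : D ⟶ G} [IsMonHom d] (hd : AlgGrp.IsKernel d q) {T' Z : Over S} [GrpObj T'] [GrpObj Z]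
    {b : T' ⟶ D} (hb : Red.IsMaximalTorus b) {z : Z ⟶ G}
    (hz : Red.IsCentralizerOf (b ≫ d) z) : Red.IsMaximalTorus z := by
  have hdm := SecKer.mono_of_isKernel hd
  have hb1 := hb.1
  have hb2 := hb.2.1
  have hZ := Agf.H600.CentRedK.isReductive_of_isCentralizerOf hG (b ≫ d) hb.2.2.1 z hz
  have hT : Red.IsTorus Z := by
    refine Groth.Agent.RedSub.H653.BorelZ.isTorus_of_geomFibres hZ fun s => ?_
    obtain ⟨C', _, q', hq', L', hd'⟩ := exists_LQ_bc hG L hd (Red.geomPt s)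
    have h1 := AlgBc.isMaximalTorus_bc (Red.geomPt s) hb
    have h2 := SplitBc264.isCentralizerOf_bc (Red.geomPt s) hz
    rw [Functor.map_comp] at h2
    exact isTorus_cent_field (RedBc892U.isReductive_bc (Red.geomPt s) hG) L' hd' h1 h2
  obtain ⟨c, hc⟩ := K195.CentTor.exists_self (b ≫ d) hb.2.2.1 z hz
  exact SplitBc264.isMaximalTorus_of_isCentralizerOf hT
    (cent_self hz c hc (MaxTorNear900.mul_comm_of_isTorus hT))

theorem exists_cent (hG : Red.IsReductive G) {C₁ : Over S} [GrpObj C₁] {q : G ⟶ C₁} [IsMonHom q]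
    (L : LQ q) {d : D ⟶ G} [IsMonHom d] (hd : AlgGrp.IsKernel d q) {T' : Over S} [GrpObj T']
    {b : T' ⟶ D} (hb : Red.IsMaximalTorus b) :
    ∃ (Z : Over S) (_ : GrpObj Z) (z : Z ⟶ G), Red.IsCentralizerOf (b ≫ d) z ∧ Red.IsMaximalTorus z := by
  have hb1 := hb.1
  have hb2 := hb.2.1
  have h1 : IsAffineHom G.hom := hG.1
  have h1' : Smooth G.hom := hG.2.1
  have hdm := SecKer.mono_of_isKernel hd
  have h2 := TorClosed636.isClosedImmersion_of_isTorus (b ≫ d) hb.2.2.1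
  obtain ⟨Z, i1, z, h1, -⟩ := CentSmooth.exists_smooth_centralizer (b ≫ d) hb.2.2.1
  exact ⟨Z, i1, z, h1, isMaximalTorus_cent hG L hd hb h1⟩

end base

end K197.DerCent
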