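import Groth.Agent.RedSub.K197.Corad

/-!
# `rad(G) × dér(G) ⟶ G` is an isogeny
-/

set_option autoImplicit false
universe u

open CategoryTheory MonoidalCategory CartesianMonoidalCategory MonObj GrpObj AlgebraicGeometry Limits

namespace K197.RadDer

open QuotPts Corad Groth.Agent.RedSub.H654.Coradical

variable {S : Scheme.{u}} {G R D C : Over S} [GrpObj G] [GrpObj R] [GrpObj C]

lemma tensorHom_mul {X Y : Over S} (a : X ⟶ G) (b : Y ⟶ G) :
    (a ⊗ₘ b) ≫ μ[G] = (fst _ _ ≫ a) * (snd _ _ ≫ b) := by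
  rw [Hom.mul_def]
  congr 1

/-- `R × D ⟶ G` is the base change of `R ⟶ G/D` along `G ⟶ G/D` -/
theorem isPullback_mul (i : R ⟶ G) [IsMonHom i] (d : D ⟶ G) (q : G ⟶ C) [IsMonHom q]
    (hd : AlgGrp.IsKernel d q) :
    IsPullback (fst R D) ((i ⊗ₘ d) ≫ μ[G]) (i ≫ q) q := by
  have hdq := SecKer.comp_eq_one_of_isKernel hd
  have hm := SecKer.mono_of_isKernel hd
  rw [tensorHom_mul]
  refine isPullback_of_pts ?_ ?_ ?_
  · rw [MonObj.mul_comp, Category.assoc, Category.assoc, hdq, MonObj.comp_one, _root_.mul_one]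
  · intro T x y h
    obtain ⟨z, hz⟩ := SecKer.exists_lift_of_isKernel hd ((x ≫ i)⁻¹ * y) (by
      rw [MonObj.mul_comp, GrpObj.inv_comp, ← h, Category.assoc, inv_mul_cancel])
    refine ⟨lift x z, lift_fst _ _, ?_⟩
    rw [MonObj.comp_mul, lift_fst_assoc, lift_snd_assoc, hz, mul_inv_cancel_left]
  · intro T a a' h1 h2
    have e : ∀ b : T ⟶ R ⊗ D, b ≫ ((fst _ _ ≫ i) * (snd _ _ ≫ d)) =
        ((b ≫ fst _ _) ≫ i) * ((b ≫ snd _ _) ≫ d) := fun b => by
      rw [MonObj.comp_mul b]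
      simp only [Category.assoc]
    rw [e, e, h1] at h2
    apply CartesianMonoidalCategory.hom_ext
    · exact h1
    · exact (cancel_mono d).1 (mul_left_cancel h2)

/-- **`rad(G) × dér(G) ⟶ G` is an isogeny** -/
theorem isog_mul [GrpObj D] (hG : Red.IsReductive G) (d : D ⟶ G) [IsMonHom d]
    (hker : ∃ (C : Over S) (_ : GrpObj C) (f₀ : G ⟶ C), IsMonHom f₀ ∧ (∀ (X : Over S) (a b : X ⟶ C), a * b = b * a) ∧
      AlgGrp.IsKernel d f₀)
    (hkill : RedSub.KilledByCommutative d) {Z : Over S} [GrpObj Z]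
    (j : Z ⟶ G) (hZ : Red.IsCentre j) (r : R ⟶ Z) (hR : Red.IsMaximalTorus r) :
    Isog.IsIsog (((r ≫ j) ⊗ₘ d) ≫ μ[G]).left := by
  obtain ⟨C, _, f₀, _, hC, hk⟩ := hker
  obtain ⟨C₁, _, q, hq, ⟨L⟩⟩ := exists_LQ hG
  have hd := isKernel_of L hC hk hkill
  have hj : IsMonHom j := hZ.1
  have hr : IsMonHom r := hR.1
  have h1 := isog_rad_LQ L hZ hR
  have h2 := (isPullback_mul (r ≫ j) d q hd).map (Over.forget S)
  rw [Category.assoc] at h2
  exact MorphismProperty.of_isPullback (P := Isog.IsIsog) h2 h1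

/-- a flat surjective quasi-compact monomorphism is an isomorphism -/
theorem isIso_of_isog_mono {X Y : Over S} (f : X ⟶ Y) [Mono f] (hf : Isog.IsIsog f.left) : IsIso f := by
  have h1 : Mono f.left := inferInstanceAs (Mono ((Over.forget S).map f))
  have h2 : IsIso (pullback.fst f.left f.left) := inferInstance
  have hfin : IsFinite f.left := hf.2
  have h3 : IsIso f.left := MorphismProperty.of_pullback_fst_of_descendsAlong
    (P := MorphismProperty.isomorphisms Scheme.{u}) (Q := @Surjective ⊓ @Flat ⊓ @QuasiCompact)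
    ⟨hf.1, inferInstance⟩ h2
  have : IsIso ((Over.forget S).map f) := h3
  exact isIso_of_reflects_iso f (Over.forget S)

end K197.RadDer
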