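import Groth.Agent.RedSub.K197.DerCent
import Groth.Agent.RedSub.K197.RadDer
import Groth.Agent.S4125
import Groth.Agent.S4127
import Groth.Agent.S5324
import Groth.Agent.S0351
import Groth.Agent.RedSub.K198.Rad

/-!
# Subgroups containing the derived group are reductive
-/

set_option autoImplicit false
set_option linter.unusedSectionVars false
universe u

open CategoryTheory MonoidalCategory CartesianMonoidalCategory MonObj GrpObj AlgebraicGeometry Limits

namespace K197.DerSub

open Groth.Agent Groth.Agent.Sga3B Groth.Agent.Sga3B.DSPts Groth.Agent.RedSub.H654.Coradical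
  Groth.Agent.Sga3B.Parab

lemma conj_aux {A : Type*} [Group A] {a b u m : A} (h1 : b * u * b⁻¹ = m) (h3 : a * m = m * a) :
    (a * b) * u * (a * b)⁻¹ = m := by
  rw [show (a * b) * u * (a * b)⁻¹ = a * (b * u * b⁻¹) * a⁻¹ by group, h1, h3, mul_inv_cancel_right]

section cov

variable {S : Scheme.{u}} {G D Z R C₁ : Over S} [GrpObj G] [GrpObj D] [GrpObj Z] [GrpObj R] [GrpObj C₁]
  {q : G ⟶ C₁} [IsMonHom q] (L : LQ q) {d : D ⟶ G} [IsMonHom d] (hd : AlgGrp.IsKernel d q)
  {j : Z ⟶ G} (hZ : Red.IsCentre j) {r : R ⟶ Z} (hR : Red.IsMaximalTorus r)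

include L hd hZ hR in
/-- `rad(G) × dér(G) ⟶ G` is an fppf covering -/
theorem isCov_mul : Fppf.IsCov (((r ≫ j) ⊗ₘ d) ≫ μ[G]) := by
  have hj : IsMonHom j := hZ.1
  have hr : IsMonHom r := hR.1
  have h1 := Corad.isog_rad_LQ L hZ hR
  have h2 := (RadDer.isPullback_mul (r ≫ j) d q hd).map (Over.forget S)
  rw [Category.assoc] at h2
  have h3 : Smooth C₁.hom := TorusAlgClosed.smooth_of_isTorus L.isTorus
  have h4 : Smooth R.hom := TorusAlgClosed.smooth_of_isTorus hR.2.2.1
  have h5 : LocallyOfFinitePresentation ((r ≫ j ≫ q).left ≫ C₁.hom) := by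
    rw [Over.w (r ≫ j ≫ q)]
    infer_instance
  have h6 : LocallyOfFinitePresentation (r ≫ j ≫ q).left :=
    MorphismProperty.of_postcomp (W := @LocallyOfFinitePresentation) (W' := @LocallyOfFiniteType)
      (r ≫ j ≫ q).left C₁.hom inferInstance h5
  obtain ⟨a, b, -⟩ := (Isog.isIsog_iff _).1 h1
  exact ⟨MorphismProperty.of_isPullback (P := @Surjective) h2 a,
    MorphismProperty.of_isPullback (P := @Flat) h2 b,
    MorphismProperty.of_isPullback (P := @LocallyOfFinitePresentation) h2 h6⟩

include L hd hZ hR in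
/-- a normal subgroup of a group containing the derived group is normal -/
theorem isNormalHom_of_contains {H U : Over S} [GrpObj H] [GrpObj U] (k : H ⟶ G) [IsMonHom k] [Mono k]
    (e : D ⟶ H) (he : e ≫ k = d) (i : U ⟶ H) [IsMonHom i] [Mono i] (hi : AlgGrp.IsNormalHom i) :
    AlgGrp.IsNormalHom (i ≫ k) := by
  intro T g n
  obtain ⟨T', c, x, hc, hx⟩ := Fppf.exists_lift_local (isCov_mul L hd hZ hR) g
  obtain ⟨n', hn'⟩ := hi T' (x ≫ snd _ _ ≫ e) (c ≫ n)
  have h1 := congrArg (· ≫ k) hn'
  simp only [MonObj.mul_comp, GrpObj.inv_comp, Category.assoc, he] at h1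
  have h2 : c ≫ g = ((x ≫ fst _ _) ≫ r ≫ j) * (x ≫ snd _ _ ≫ d) := by
    rw [← hx, RadDer.tensorHom_mul, MonObj.comp_mul]
    simp only [Category.assoc]
  have h3 := K198.Rad.centre_comm j hZ ((x ≫ fst _ _) ≫ r) (n' ≫ i ≫ k)
  obtain ⟨l, hl⟩ := Fppf.exists_desc_mono hc (i ≫ k) (g * (n ≫ i ≫ k) * g⁻¹) n' (by
    rw [MonObj.comp_mul, MonObj.comp_mul, GrpObj.comp_inv, h2]
    simp only [Category.assoc] at h1 h3 ⊢
    exact (conj_aux h1 h3).symm)
  exact ⟨l, hl.symm⟩

end cov

section field

variable {K : Type u} [Field K] [IsAlgClosed K] {G D H C₁ : Over (Spec (CommRingCat.of K))}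
  [GrpObj G] [GrpObj D] [GrpObj H] [GrpObj C₁]

theorem isReductiveOver (hG : Red.IsReductive G) (hGo : Red.IsReductiveOver K G) {q : G ⟶ C₁} [IsMonHom q]
    (L : LQ q) {d : D ⟶ G} [IsMonHom d] (hd : AlgGrp.IsKernel d q) (k : H ⟶ G) [IsMonHom k]
    (hk : IsClosedImmersion k.left) (e : D ⟶ H) (he : e ≫ k = d) (hs : Smooth H.hom)
    (hc : ConnectedSpace H.left) : Red.IsReductiveOver K H := by
  have h1 : IsAffineHom G.hom := hG.1
  have h2 : Smooth G.hom := hG.2.1
  have h3 := MaxTorBc505.geometricallyIrreducible hG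
  have h4 : IsClosedImmersion (𝟙 G : G ⟶ G).left := inferInstanceAs (IsClosedImmersion (𝟙 G.left))
  obtain ⟨Z, _, j, hjc, hZ, -⟩ := CentRep.exists_centralizer (G := G) (𝟙 G)
  have h5 : IsAffine G.left := hGo.1
  have h6 : IsAffine Z.left := isAffine_of_isAffineHom j.left
  have h7 : LocallyOfFiniteType Z.hom := by
    rw [← Over.w j]
    infer_instance
  obtain ⟨R, _, r, hR, -⟩ := RG.BrHc.exists_isMaximalTorus Z
  have hkm : Mono k := Over.mono_of_mono_left k
  refine ⟨isAffine_of_isAffineHom k.left, hs, hc, fun U _ i _ hi hU hUc hn hno => ?_⟩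
  have him : Mono i := Over.mono_of_mono_left i
  have h8 : IsClosedImmersion (i ≫ k).left := by
    rw [Over.comp_left]
    infer_instance
  exact hGo.2.2.2 U (i ≫ k) h8 hU hUc (isNormalHom_of_contains L hd hZ hR k e he i hn) hno

end field

section base

variable {S : Scheme.{u}} {G D H C₁ : Over S} [GrpObj G] [GrpObj D] [GrpObj H] [GrpObj C₁]

/-- a subgroup over a field (base change form) is closed -/
lemma isClosedImmersion_fibre (k : H ⟶ G) [IsMonHom k] [IsImmersion k.left] {F : Type u} [Field F]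
    (p : Spec (CommRingCat.of F) ⟶ S) : IsClosedImmersion ((Over.pullback p).map k).left := by
  have h1 : IsImmersion ((Over.pullback p).map k).left :=
    MorphismProperty.of_isPullback (P := @IsImmersion) (EtHom.isPullback_map p k) inferInstance
  exact S0351.result F (Red.bc p H) (Red.bc p G) ((Over.pullback p).map k)

theorem main (hG : Red.IsReductive G) {q : G ⟶ C₁} [IsMonHom q]
    (L : LQ q) {d : D ⟶ G} [IsMonHom d] (hd : AlgGrp.IsKernel d q) (k : H ⟶ G) [IsMonHom k]
    [IsImmersion k.left] (e : D ⟶ H) (he : e ≫ k = d) [Smooth H.hom]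
    (hconn : RedSub.HasConnectedFibres H) : IsClosedImmersion k.left ∧ Red.IsReductive H := by
  have h1 : IsAffineHom G.hom := hG.1
  have h2 : Smooth G.hom := hG.2.1
  have h3 : Mono k.left := inferInstance
  have hkm : Mono k := Over.mono_of_mono_left k
  have h4 : IsSeparated H.hom := by
    rw [← Over.w k]
    infer_instance
  have h5 : QuasiCompact H.hom := S5324.result S H (fun s =>
    MorphismProperty.pullback_snd (P := @LocallyOfFiniteType) _ _ inferInstance) hconn
  have hred : ∀ s : S, Red.IsReductiveOver (AlgebraicClosure (S.residueField s)) (Red.geomFibre s H) := by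
    intro s
    obtain ⟨C', _, q', hq', L', hd'⟩ := DerCent.exists_LQ_bc hG L hd (Red.geomPt s)
    refine isReductiveOver (RedBc892U.isReductive_bc (Red.geomPt s) hG) (hG.2.2 s) L' hd'
      ((Over.pullback (Red.geomPt s)).map k) (isClosedImmersion_fibre k (Red.geomPt s))
      ((Over.pullback (Red.geomPt s)).map e) (by rw [← Functor.map_comp, he])
      (inferInstanceAs (Smooth (pullback.snd H.hom (Red.geomPt s)))) ?_
    exact K16.PreimMain.connectedSpace_geomFibre hconn s
  have haff : ∀ s : S, IsAffine (pullback H.hom (S.fromSpecResidueField s)) := by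
    intro s
    have h6 : IsClosedImmersion ((Over.pullback (S.fromSpecResidueField s)).map k).left :=
      isClosedImmersion_fibre (F := S.residueField s) k (S.fromSpecResidueField s)
    have h8 : IsAffineHom (pullback.snd G.hom (S.fromSpecResidueField s)) :=
      MorphismProperty.pullback_snd (P := @IsAffineHom) _ _ h1
    have h7 : IsAffine ((Over.pullback (S.fromSpecResidueField s)).obj G).left :=
      isAffine_of_isAffineHom (pullback.snd G.hom (S.fromSpecResidueField s))
    exact isAffine_of_isAffineHom ((Over.pullback (S.fromSpecResidueField s)).map k).left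
  choose U hsU hU using fun s => S4125.result S H haff hconn s (hred s)
  have hcov : RedCover147.IsEtCov (fun s => (U s).ι) := RedCover147.IsEtCov.of_etale _ (fun s => inferInstance)
    fun s => ⟨s, ⟨s, hsU s⟩, rfl⟩
  have hH := RedCover147.isReductive_of_cover hcov hU
  exact ⟨(S4127.result S H G hH k).2 inferInstance, hH⟩

end base

end K197.DerSub
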