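import Groth.Agent.RedSub.K197.DerSub

/-!
# Maximal tori of subgroups containing the derived group
-/

set_option autoImplicit false
set_option linter.unusedSectionVars false
universe u

open CategoryTheory MonoidalCategory CartesianMonoidalCategory MonObj GrpObj AlgebraicGeometry Limits

namespace K197.DerSubTor

open Groth.Agent Groth.Agent.Sga3B Groth.Agent.Sga3B.DSPts Groth.Agent.RedSub.H654.Coradical
  Groth.Agent.Sga3B.Parab

variable {S : Scheme.{u}}

/-- a commutative reductive group is a torus -/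
theorem isTorus_of_comm {L : Over S} [GrpObj L] (hL : Red.IsReductive L)
    (hc : ∀ (X : Over S) (x y : X ⟶ L), x * y = y * x) : Red.IsTorus L := by
  choose U f hf hs D using fun s : S => Groth.Agent.S2958.result L hL s
  refine MT.isTorus_of_family f (fun j => inferInstance) (fun j => (f j).isOpenMap) (fun s => ⟨s, hs s⟩)
    fun j => ?_
  obtain ⟨D⟩ := D j
  have hm : IsMonHom D.i := D.maximalTorus.1
  have hm2 : Mono D.i := D.maximalTorus.2.1
  have h1 := TorClosed636.isCentralizerOf_self D.reductive D.maximalTorus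
  obtain ⟨z, hz⟩ := (h1.2.2 _ (𝟙 _)).2 fun X' x y => CoradBc.comm_bc (f j) hc _ _ _
  have h2 : IsIso D.i := ⟨z, by rw [← cancel_mono D.i, Category.assoc, hz, Category.comp_id, Category.id_comp], hz⟩
  exact TorusBc.isTorus_of_iso (Grp.mkIso (asIso D.i) (IsMonHom.one_hom D.i) (IsMonHom.mul_hom D.i))
    D.maximalTorus.2.2.1

variable {G D H C₁ T T' : Over S} [GrpObj G] [GrpObj D] [GrpObj H] [GrpObj C₁] [GrpObj T] [GrpObj T']

theorem isMaximalTorus_inter (hG : Red.IsReductive G) {q : G ⟶ C₁} [IsMonHom q]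
    (L : LQ q) {d : D ⟶ G} [IsMonHom d] (hd : AlgGrp.IsKernel d q) (k : H ⟶ G) [IsMonHom k]
    [Mono k] (hH : Red.IsReductive H) (e : D ⟶ H) (he : e ≫ k = d)
    {i : T ⟶ G} (hi : Red.IsMaximalTorus i) {a : T' ⟶ T} {b : T' ⟶ H} [IsMonHom a] [IsMonHom b]
    (hsq : IsPullback a b i k) : Red.IsMaximalTorus b := by
  have hi1 := hi.1
  have hi2 := hi.2.1
  have hdm := SecKer.mono_of_isKernel hd
  obtain ⟨hgrp, hf1, hf2⟩ := K16.PreimMain.exists_grp d i
  have hsq0 := IsPullback.of_hasPullback i d
  have hP := DerTorus.isTorus_inter L hd hi hsq0 hG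
  have hcent := DerTorus.isCentralizerOf_inter L hd hi hsq0 hG
  have hem : IsMonHom e := RadSplit.isMonHom_of_comp e k (he.symm ▸ inferInstance)
  have hemono : Mono e := by
    have : Mono (e ≫ k) := he.symm ▸ hdm
    exact mono_of_mono e k
  have hbm : Mono b := ⟨fun x y hxy => hsq.hom_ext (by
    rw [← cancel_mono i, Category.assoc, Category.assoc, hsq.w, reassoc_of% hxy]) hxy⟩
  have ham : Mono a := ⟨fun x y hxy => hsq.hom_ext hxy (by
    rw [← cancel_mono k, Category.assoc, Category.assoc, ← hsq.w, reassoc_of% hxy])⟩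
  have hcomm : ∀ (X : Over S) (x y : X ⟶ T'), x * y = y * x := by
    intro X x y
    rw [← cancel_mono a, MonObj.mul_comp, MonObj.mul_comp, MaxTorNear900.mul_comm_of_isTorus hi.2.2.1]
  have hz : Red.IsCentralizerOf (pullback.snd i d ≫ e) b := by
    refine ⟨inferInstance, hbm, fun X g => ⟨?_, fun hg => ?_⟩⟩
    · rintro ⟨z, rfl⟩ X' x y
      rw [← cancel_mono k, MonObj.mul_comp, MonObj.mul_comp]
      simp only [Category.assoc, he, ← hsq.w]
      rw [← pullback.condition]
      have h1 := MaxTorNear900.mul_comm_of_isTorus hi.2.2.1 X' (x ≫ z ≫ a) (y ≫ pullback.fst i d)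
      have h2 := congrArg (· ≫ i) h1
      simp only [MonObj.mul_comp, Category.assoc] at h2
      exact h2
    · obtain ⟨t, ht⟩ := (hcent.2.2 X (g ≫ k)).2 fun X' x y => by
        have h1 := congrArg (· ≫ k) (hg X' x y)
        simp only [MonObj.mul_comp, Category.assoc, he] at h1
        exact h1
      exact ⟨hsq.lift t g ht, hsq.lift_snd _ _ _⟩
  have hT' : Red.IsReductive T' :=
    Agf.H600.CentRedK.isReductive_of_isCentralizerOf hH (pullback.snd i d ≫ e) hP b hz
  refine SplitBc264.isMaximalTorus_of_isCentralizerOf (isTorus_of_comm hT' hcomm)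
    (DerCent.cent_self hz (hsq.lift (pullback.fst i d) (pullback.snd i d ≫ e) ?_) (hsq.lift_snd _ _ _) hcomm)
  rw [Category.assoc, he, pullback.condition]

end K197.DerSubTor
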