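import Groth.Agent.RedSub.K197.CoradBc
import Groth.Agent.S5517
import Groth.Agent.Sga3B.BcNat
import Groth.Agent.Sga3B.SplitIso848

/-!
# Maximal tori of a reductive group and of its derived group
`d : D ⟶ G` the kernel of `q`, `LQ q` (the derived group), `i : T ⟶ G` a maximal torus and
`T' = T ∩ D`.
* `exists_split_chart` : étale-locally there is a splitting of `G` with torus `T`.
* `isTorus_inter` : `T ∩ D` is a torus.
* `isCentralizerOf_inter` : `T` is the centralizer of `T ∩ D` in `G`.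
* `isMaximalTorus_inter` : `T ∩ D` is a maximal torus of `D`.
-/

set_option autoImplicit false
set_option linter.unusedSectionVars false
universe u

open CategoryTheory MonoidalCategory CartesianMonoidalCategory MonObj GrpObj AlgebraicGeometry Limits

namespace K197.DerTorus

open Groth.Agent.Sga3B Groth.Agent.Sga3B.DSPts Groth.Agent.RedSub.H654.Coradical

variable {S : Scheme.{u}} {G : Over S} [GrpObj G]

/-- étale-locally there is a splitting of `G` with the given maximal torus -/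
theorem exists_split_chart (hG : Red.IsReductive G) {T : Over S} [GrpObj T] {i : T ⟶ G}
    (hi : Red.IsMaximalTorus i) (s : S) :
    ∃ (V : Scheme.{u}) (v : V ⟶ S), Etale v ∧ s ∈ Set.range v ∧
      ∃ (E : Red.SplitRed (Red.bc v G)) (e : E.T ≅ Red.bc v T), E.i = e.hom ≫ (Over.pullback v).map i := by
  obtain ⟨B, _, v, r, hv, ⟨b, hb⟩, hsp⟩ := TorusEtSplit.exists_etale_split T hi.2.2.1 s
  have hG' := RedBc892U.isReductive_bc v hG
  have hi' := AlgBc.isMaximalTorus_bc v hi
  obtain ⟨U, hbU, E, e, he⟩ := Groth.Agent.S5517.result hG' ((Over.pullback v).map i) hi' (Fin r → ℤ) hsp b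
  refine ⟨U, U.ι ≫ v, inferInstance, ⟨⟨b, hbU⟩, hb⟩,
    SplitIso848.splitOfIso (BcIso.bcCompIso U.ι v G).symm E,
    e ≪≫ (RedIso.und (BcIso.bcCompIso U.ι v T)).symm, ?_⟩
  change E.i ≫ (BcIso.bcCompIso U.ι v G).inv.hom.hom = (e.hom ≫ (RedIso.und (BcIso.bcCompIso U.ι v T)).inv) ≫ _
  rw [Category.assoc, BcNat.comp_nat_inv, he, Category.assoc]
  rfl

/-- characters killed by the coroots -/
def NS (E : Red.SplitRed G) : AddSubgroup E.M where
  carrier := {m | ∀ a : E.idx, E.P.coroot a m = 0}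
  zero_mem' := fun a => map_zero _
  add_mem' := fun hx hy a => by rw [map_add, hx a, hy a, add_zero]
  neg_mem' := fun hx a => by rw [map_neg, hx a, neg_zero]

lemma mem_NS (E : Red.SplitRed G) (m : E.M) : m ∈ NS E ↔ ∀ a : E.idx, E.P.coroot a m = 0 := Iff.rfl

section split

variable (E : Red.SplitRed G) (N : AddSubgroup E.M) {f : G ⟶ Red.DS S N} (hf : SplitChar.IsChar E N f)

lemma split_inv_hom : E.split.inv.hom.hom ≫ E.split.hom.hom.hom = 𝟙 _ :=
  congrArg (fun f => f.hom.hom) E.split.inv_hom_id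

lemma split_hom_inv : E.split.hom.hom.hom ≫ E.split.inv.hom.hom = 𝟙 _ :=
  congrArg (fun f => f.hom.hom) E.split.hom_inv_id

include hf

lemma sub_comp : (Red.DSmap S (QuotientAddGroup.mk' N) ≫ E.split.inv.hom.hom ≫ E.i) ≫ f = 1 := by
  rw [Category.assoc, Category.assoc, hf.torus, reassoc_of% (split_inv_hom E),
    BorSpan613.DSmap_comp_DSmap]
  exact DSExact.DSmap_eq_one _ fun x => (QuotientAddGroup.eq_zero_iff _).2 x.2

lemma exists_sub {X : Over S} (t : X ⟶ E.T) (ht : t ≫ E.i ≫ f = 1) :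
    ∃ z : X ⟶ Red.DS S (E.M ⧸ N), z ≫ Red.DSmap S (QuotientAddGroup.mk' N) ≫ E.split.inv.hom.hom = t := by
  rw [hf.torus, ← Category.assoc] at ht
  obtain ⟨z, hz⟩ := DSExact.exists_lift N.subtype (QuotientAddGroup.mk' N)
    (QuotientAddGroup.mk'_surjective N)
    (fun x hx => ⟨⟨x, (QuotientAddGroup.eq_zero_iff x).1 hx⟩, rfl⟩) _ ht
  exact ⟨z, by rw [reassoc_of% hz, split_hom_inv, Category.comp_id]⟩

end split

lemma isTorsionFree_NS (E : Red.SplitRed G) : Module.IsTorsionFree ℤ (E.M ⧸ NS E) := by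
  refine Module.IsTorsionFree.of_smul_eq_zero fun k x h => ?_
  obtain ⟨m, rfl⟩ := QuotientAddGroup.mk'_surjective _ x
  by_cases hk : k = 0
  · exact Or.inl hk
  · right
    rw [← map_zsmul] at h
    have h1 : k • m ∈ NS E := (QuotientAddGroup.eq_zero_iff _).1 h
    refine (QuotientAddGroup.eq_zero_iff _).2 fun a => ?_
    have h2 := h1 a
    rw [map_smul, smul_eq_mul] at h2
    exact (mul_eq_zero.1 h2).resolve_left hk

open Groth.Agent.RedSub.H654.PtBc in
lemma comm_pts_bc {V : Scheme.{u}} (v : V ⟶ S) {X H : Over S} {g : X ⟶ G} {h : H ⟶ G}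
    (hgh : ∀ (X' : Over S) (x : X' ⟶ X) (y : X' ⟶ H), (x ≫ g) * (y ≫ h) = (y ≫ h) * (x ≫ g))
    (X' : Over V) (x : X' ⟶ (Over.pullback v).obj X) (y : X' ⟶ (Over.pullback v).obj H) :
    (x ≫ (Over.pullback v).map g : X' ⟶ Red.bc v G) * (y ≫ (Over.pullback v).map h) =
      (y ≫ (Over.pullback v).map h) * (x ≫ (Over.pullback v).map g) := by
  let x' : Over.mk X'.hom ⟶ (Over.pullback v).obj X := x
  let y' : Over.mk X'.hom ⟶ (Over.pullback v).obj H := y
  have h1 : x' ≫ (Over.pullback v).map g = up rfl (dn rfl x' ≫ g) := by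
    rw [← up_comp, up_dn]
  have h2 : y' ≫ (Over.pullback v).map h = up rfl (dn rfl y' ≫ h) := by
    rw [← up_comp, up_dn]
  have h3 := congrArg (up (v := v) (a := X'.hom) rfl) (hgh _ (dn rfl x') (dn rfl y'))
  have h4 : (x' ≫ (Over.pullback v).map g : Over.mk X'.hom ⟶ Red.bc v G) * (y' ≫ (Over.pullback v).map h) =
      (y' ≫ (Over.pullback v).map h) * (x' ≫ (Over.pullback v).map g) := by
    rw [h1, h2, ← up_mul rfl, ← up_mul rfl]
    exact h3
  exact h4

section inter

variable {C₁ : Over S} [GrpObj C₁] {q : G ⟶ C₁} [IsMonHom q] (L : LQ q)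
  {D T T' : Over S} [GrpObj D] [GrpObj T] [GrpObj T'] {d : D ⟶ G} [IsMonHom d] (hd : AlgGrp.IsKernel d q)
  {i : T ⟶ G} (hi : Red.IsMaximalTorus i) {a : T' ⟶ T} {b : T' ⟶ D} [IsMonHom a] [IsMonHom b]
  (hsq : IsPullback a b i d)

include L hd hsq in
/-- the local structure of `T ∩ D` -/
theorem exists_iso_inter {V : Scheme.{u}} (v : V ⟶ S) (E : Red.SplitRed (Red.bc v G)) (e : E.T ≅ Red.bc v T)
    (he : E.i = e.hom ≫ (Over.pullback v).map i) :
    ∃ l : Red.DS V (E.M ⧸ NS E) ⟶ Red.bc v T', IsIso l ∧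
      l ≫ (Over.pullback v).map a = Red.DSmap V (QuotientAddGroup.mk' (NS E)) ≫
        E.split.inv.hom.hom ≫ e.hom := by
  obtain ⟨f, hf⟩ := SplitChar.exists_char E (NS E) (mem_NS E)
  have hmono : Mono E.i := E.maximalTorus.2.1
  have hsq' := hsq.map (Over.pullback v)
  have hd' := CoradBc.isKernel_bc v hd
  have hdm := SecKer.mono_of_isKernel hd'
  obtain ⟨y, hy⟩ := SecKer.exists_lift_of_isKernel hd'
    (Red.DSmap V (QuotientAddGroup.mk' (NS E)) ≫ E.split.inv.hom.hom ≫ E.i)
    ((CoradBc.ker_iff L v E hf _).2 (sub_comp E (NS E) hf))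
  obtain ⟨l, hl1, hl2⟩ := hsq'.exists_lift
    (Red.DSmap V (QuotientAddGroup.mk' (NS E)) ≫ E.split.inv.hom.hom ≫ e.hom) y (by
      rw [hy, he]
      simp only [Category.assoc])
  have hm1 : Mono (Red.DSmap V (QuotientAddGroup.mk' (NS E))) :=
    BorSpan613.mono_DSmap V _ (QuotientAddGroup.mk'_surjective _)
  have hs : IsIso E.split.inv.hom.hom := inferInstanceAs (IsIso ((Grp.forget _).map E.split.inv))
  have hlm : Mono l := by
    have : Mono (l ≫ (Over.pullback v).map a) := by
      rw [hl1]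
      infer_instance
    exact mono_of_mono l ((Over.pullback v).map a)
  -- the inverse
  have h1 : ((Over.pullback v).map a ≫ e.inv) ≫ E.i ≫ f = 1 := by
    rw [he]
    simp only [Category.assoc, Iso.inv_hom_id_assoc]
    rw [← Category.assoc, hsq'.w]
    refine (CoradBc.ker_iff L v E hf _).1 ?_
    rw [Category.assoc, SecKer.comp_eq_one_of_isKernel hd', MonObj.comp_one]
  obtain ⟨z, hz⟩ := exists_sub E (NS E) hf _ h1
  have hzl : z ≫ l = 𝟙 _ := by
    have hbm : Mono ((Over.pullback v).map a) := by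
      have hdm0 := SecKer.mono_of_isKernel hd
      have : Mono a := ⟨fun x y hxy => hsq.hom_ext hxy (by
        rw [← cancel_mono d, Category.assoc, Category.assoc, ← hsq.w, reassoc_of% hxy])⟩
      infer_instance
    rw [← cancel_mono ((Over.pullback v).map a), Category.assoc, hl1, reassoc_of% hz,
      Iso.inv_hom_id, Category.comp_id, Category.id_comp]
  refine ⟨l, ?_, hl1⟩
  have : IsSplitEpi l := ⟨⟨⟨z, hzl⟩⟩⟩
  exact isIso_of_mono_of_isSplitEpi l

include L hd hsq hi in
/-- **`T ∩ D` is a torus** -/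
theorem isTorus_inter (hG : Red.IsReductive G) : Red.IsTorus T' := by
  choose V v hv hs E e he using exists_split_chart hG hi
  refine MT.isTorus_of_family v (fun s => inferInstance) (fun s => (v s).isOpenMap)
    (fun s => ⟨s, hs s⟩) fun s => ?_
  obtain ⟨l, hl, hla⟩ := exists_iso_inter L hd hsq (v s) (E s) (e s) (he s)
  have hi1 := hi.1
  have hi2 := hi.2.1
  have hEi : IsMonHom (E s).i := (E s).maximalTorus.1
  have hdm := SecKer.mono_of_isKernel hd
  have ham : Mono a := ⟨fun x y hxy => hsq.hom_ext hxy (by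
    rw [← cancel_mono d, Category.assoc, Category.assoc, ← hsq.w, reassoc_of% hxy])⟩
  have h1 := BorSpan613.isMonHom_DSmap (V s) (QuotientAddGroup.mk' (NS (E s)))
  have h2 : IsMonHom (l ≫ (Over.pullback (v s)).map a ≫ (Over.pullback (v s)).map i) := by
    rw [reassoc_of% hla, ← he s]
    infer_instance
  have hl' : IsMonHom l := RadSplit.isMonHom_of_comp l _ h2
  have := isTorsionFree_NS (E s)
  exact TorusBc.isTorus_of_iso (Grp.mkIso (asIso l) (IsMonHom.one_hom l) (IsMonHom.mul_hom l))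
    (RadSplit.isTorus_DS (V s) ((E s).M ⧸ NS (E s)))

include L hd hsq hi in
/-- **the centralizer of `T ∩ D` is `T`** -/
theorem isCentralizerOf_inter (hG : Red.IsReductive G) : Red.IsCentralizerOf (b ≫ d) i := by
  have hi1 := hi.1
  have hi2 := hi.2.1
  refine ⟨hi1, hi2, fun X g => ⟨?_, fun hg => ?_⟩⟩
  · rintro ⟨z, rfl⟩ X' x y
    rw [← hsq.w, ← Category.assoc, ← Category.assoc, ← MonObj.mul_comp, ← MonObj.mul_comp,
      MaxTorNear900.mul_comm_of_isTorus hi.2.2.1]
  · refine LocP.exists_fac i g fun s => ?_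
    obtain ⟨V, v, hv, hs, E, e, he⟩ := exists_split_chart hG hi s
    obtain ⟨l, hl, hla⟩ := exists_iso_inter L hd hsq v E e he
    refine ⟨V, v, inferInstance, inferInstance, hs, ?_⟩
    obtain ⟨t, ht⟩ := RegCoch.exists_torus_of_comm E (NS E) (mem_NS E) ((Over.pullback v).map g) (by
      intro X' x y
      have h1 : y ≫ Red.DSmap V (QuotientAddGroup.mk' (NS E)) ≫ E.split.inv.hom.hom ≫ E.i =
          (y ≫ l) ≫ (Over.pullback v).map (b ≫ d) := by
        rw [← hsq.w, Functor.map_comp, Category.assoc, reassoc_of% hla, he]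
      rw [h1]
      exact comm_pts_bc v hg X' x (y ≫ l))
    exact ⟨t ≫ e.hom, by rw [Category.assoc, ← he, ht]⟩

include L hd hsq hi in
/-- **`T ∩ D` is a maximal torus of `D`** -/
theorem isMaximalTorus_inter (hG : Red.IsReductive G) : Red.IsMaximalTorus b := by
  have hi1 := hi.1
  have hi2 := hi.2.1
  have hdm := SecKer.mono_of_isKernel hd
  have hc := isCentralizerOf_inter L hd hi hsq hG
  have hbm : Mono b := ⟨fun x y hxy => hsq.hom_ext (by
    rw [← cancel_mono i, Category.assoc, Category.assoc, hsq.w, reassoc_of% hxy]) hxy⟩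
  refine ⟨inferInstance, hbm, isTorus_inter L hd hi hsq hG, fun s T'' _ j _ _ g hT'' hg => ?_⟩
  obtain ⟨h1, h2, h3⟩ := SplitBc264.isCentralizerOf_bc (Red.geomPt s) hc
  obtain ⟨z, hz⟩ := (h3 T'' (j ≫ (Over.pullback (Red.geomPt s)).map d)).mpr (by
    intro X x t
    rw [Functor.map_comp, ← hg]
    simp only [← Category.assoc]
    rw [← MonObj.mul_comp, ← MonObj.mul_comp, ← MonObj.mul_comp, ← MonObj.mul_comp,
      SplitBc264.torus_comm hT''])
  have hsq' := hsq.map (Over.pullback (Red.geomPt s))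
  obtain ⟨l, hl1, hl2⟩ := hsq'.exists_lift z j hz
  have hbm' : Mono ((Over.pullback (Red.geomPt s)).map b) := inferInstance
  refine ⟨l, ?_, ?_⟩
  · rw [← cancel_mono ((Over.pullback (Red.geomPt s)).map b), Category.assoc, hl2, hg, Category.id_comp]
  · rw [← cancel_mono j, Category.assoc, hg, hl2, Category.id_comp]

end inter

end K197.DerTorus
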