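import Groth.Agent.RedSub.K197.Corad

/-!
# `G ⟶ C × G/R` is an isogeny if `R ⟶ C` is
-/

set_option autoImplicit false
universe u

open CategoryTheory MonoidalCategory CartesianMonoidalCategory MonObj GrpObj AlgebraicGeometry Limits

namespace K197.IsogLift

open Fppf QuotPts

variable {S : Scheme.{u}} {G R C Q : Over S} [GrpObj G] [GrpObj R] [GrpObj C]

/-- base change of a morphism: `X ⊗ A ⟶ X ⊗ B` -/
lemma isPullback_whiskerLeft (X : Over S) {A B : Over S} (f : A ⟶ B) :
    IsPullback (X ◁ f) (snd X A) (snd X B) f :=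
  isPullback_of_pts (by simp) (fun T x y h => ⟨lift (x ≫ fst _ _) y, by
    rw [lift_whiskerLeft]
    apply CartesianMonoidalCategory.hom_ext
    · simp
    · simpa using h.symm, by simp⟩) (fun T a a' h h' => by
    apply CartesianMonoidalCategory.hom_ext
    · have := congrArg (fun t => t ≫ fst _ _) h
      simpa using this
    · exact h')

lemma isPullback_whiskerRight (X : Over S) {A B : Over S} (f : A ⟶ B) :
    IsPullback (f ▷ X) (fst A X) (fst B X) f :=
  isPullback_of_pts (by simp) (fun T x y h => ⟨lift y (x ≫ snd _ _), by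
    rw [lift_whiskerRight]
    apply CartesianMonoidalCategory.hom_ext
    · simpa using h.symm
    · simp, by simp⟩) (fun T a a' h h' => by
    apply CartesianMonoidalCategory.hom_ext
    · exact h'
    · have := congrArg (fun t => t ≫ snd _ _) h
      simpa using this)

/-- `(g, c) ↦ (g, f(g) c)` -/
noncomputable def shear (f : G ⟶ C) : G ⊗ C ≅ G ⊗ C where
  hom := lift (fst _ _) ((fst _ _ ≫ f) * snd _ _)
  inv := lift (fst _ _) ((fst _ _ ≫ f)⁻¹ * snd _ _)
  hom_inv_id := by
    apply CartesianMonoidalCategory.hom_ext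
    · simp
    · rw [Category.assoc, lift_snd, MonObj.comp_mul, GrpObj.comp_inv, lift_fst_assoc, lift_snd,
        Category.id_comp, inv_mul_cancel_left]
  inv_hom_id := by
    apply CartesianMonoidalCategory.hom_ext
    · simp
    · rw [Category.assoc, lift_snd, MonObj.comp_mul, lift_fst_assoc, lift_snd,
        Category.id_comp, mul_inv_cancel_left]

lemma IsCov.of_isIso {X Y : Over S} (f : X ⟶ Y) [IsIso f] : IsCov f := by
  have : IsIso f.left := inferInstanceAs (IsIso ((Over.forget _).map f))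
  exact ⟨inferInstance, inferInstance, inferInstance⟩

theorem isog_lift (ii : R ⟶ G) [IsMonHom ii] [Mono ii] (f₀ : G ⟶ C) [IsMonHom f₀] (q : G ⟶ Q)
    (hq : RedSub.IsQuotient ii q) (hρ : Isog.IsIsog (ii ≫ f₀).left)
    (hlfp : LocallyOfFinitePresentation (ii ≫ f₀).left) : Isog.IsIsog (lift f₀ q).left := by
  have hρc : IsCov (ii ≫ f₀) := ⟨hρ.1.1, hρ.1.2, hlfp⟩
  -- the kernel of `R ⟶ C`
  let K : Over S := pullback (ii ≫ f₀) η[C]
  let k : K ⟶ R := pullback.fst (ii ≫ f₀) η[C]
  have hk : IsPullback k (toUnit K) (ii ≫ f₀) η[C] := by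
    have h1 := IsPullback.of_hasPullback (ii ≫ f₀) η[C]
    rwa [toUnit_unique (pullback.snd (ii ≫ f₀) η[C]) (toUnit K)] at h1
  have hK : Isog.IsIsog (toUnit K).left :=
    MorphismProperty.of_isPullback (P := Isog.IsIsog) (hk.map (Over.forget S)) hρ
  let ℓ : G ⊗ R ⟶ G := fst _ _ * (snd _ _ ≫ ii)
  let κ : G ⊗ R ⟶ C ⊗ Q := ℓ ≫ lift f₀ q
  have hℓq : ℓ ≫ q = fst _ _ ≫ q := mul_comp_eq hq _ _
  have hℓf : ℓ ≫ f₀ = (fst _ _ ≫ f₀) * (snd _ _ ≫ ii ≫ f₀) := by
    change (fst _ _ * (snd _ _ ≫ ii)) ≫ f₀ = _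
    rw [MonObj.mul_comp, Category.assoc]
  have hκ : IsCov κ := by
    have e : κ = (G ◁ (ii ≫ f₀)) ≫ (shear f₀).hom ≫ (q ▷ C) ≫ (β_ Q C).hom := by
      apply CartesianMonoidalCategory.hom_ext
      · change (ℓ ≫ lift f₀ q) ≫ fst _ _ = _
        rw [Category.assoc, lift_fst, hℓf]
        have e1 : (shear f₀).hom = lift (fst _ _) ((fst _ _ ≫ f₀) * snd _ _) := rfl
        simp only [Category.assoc, e1, braiding_hom_fst,
          whiskerRight_snd, lift_snd, MonObj.comp_mul, whiskerLeft_fst_assoc, whiskerLeft_snd]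
      · change (ℓ ≫ lift f₀ q) ≫ snd _ _ = _
        rw [Category.assoc, lift_snd, hℓq]
        have e1 : (shear f₀).hom = lift (fst _ _) ((fst _ _ ≫ f₀) * snd _ _) := rfl
        simp only [Category.assoc, e1, braiding_hom_snd, whiskerRight_fst, lift_fst_assoc,
          whiskerLeft_fst_assoc]
    rw [e]
    refine IsCov.comp (IsCov.of_isPullback (isPullback_whiskerLeft G (ii ≫ f₀)).flip hρc) ?_
    refine IsCov.comp (IsCov.of_isIso _) ?_
    refine IsCov.comp (IsCov.of_isPullback (isPullback_whiskerRight C q).flip (isCov hq)) ?_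
    exact IsCov.of_isIso _
  have hsq : IsPullback (fst (G ⊗ R) K) ((fst (G ⊗ R) K ≫ ℓ) * (snd (G ⊗ R) K ≫ k ≫ ii)) κ (lift f₀ q) := by
    have hkf : k ≫ ii ≫ f₀ = 1 := hk.w
    have e1 : ∀ (T : Over S) (v : T ⟶ G ⊗ R) (x : T ⟶ K),
        ((v ≫ ℓ) * (x ≫ k ≫ ii)) ≫ lift f₀ q = v ≫ κ := by
      intro T v x
      apply CartesianMonoidalCategory.hom_ext
      · change (_ ≫ lift f₀ q) ≫ fst _ _ = (v ≫ ℓ ≫ lift f₀ q) ≫ fst _ _
        simp only [Category.assoc, lift_fst, MonObj.mul_comp, hkf, MonObj.comp_one, _root_.mul_one]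
      · change (_ ≫ lift f₀ q) ≫ snd _ _ = (v ≫ ℓ ≫ lift f₀ q) ≫ snd _ _
        simp only [Category.assoc, lift_snd]
        rw [← Category.assoc x k ii, mul_comp_eq hq, Category.assoc]
    refine isPullback_of_pts ?_ ?_ ?_
    · exact (e1 _ _ _).symm
    · intro T v g hvg
      have h1 : (v ≫ ℓ) ≫ q = g ≫ q := by
        have := congrArg (fun t => t ≫ snd _ _) hvg
        simpa [κ] using this
      have h2 : (v ≫ ℓ) ≫ f₀ = g ≫ f₀ := by
        have := congrArg (fun t => t ≫ fst _ _) hvg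
        simpa [κ] using this
      obtain ⟨z, hz⟩ := exists_of_eq hq (v ≫ ℓ) g h1
      have h3 : z ≫ ii ≫ f₀ = 1 := by
        rw [hz, MonObj.mul_comp] at h2
        have := left_eq_mul.1 h2
        rwa [Category.assoc] at this
      obtain ⟨x, hx, -⟩ := hk.exists_lift z (toUnit T) (by rw [h3]; rfl)
      refine ⟨lift v x, lift_fst _ _, ?_⟩
      rw [MonObj.comp_mul, lift_fst_assoc, lift_snd_assoc, reassoc_of% hx, hz]
    · intro T a a' h1 h2
      apply CartesianMonoidalCategory.hom_ext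
      · exact h1
      · have hkm : Mono k := by
          constructor
          intro W u v huv
          exact hk.hom_ext huv (toUnit_unique _ _)
        have e2 : ∀ b : T ⟶ (G ⊗ R) ⊗ K, b ≫ ((fst (G ⊗ R) K ≫ ℓ) * (snd (G ⊗ R) K ≫ k ≫ ii)) =
          ((b ≫ fst (G ⊗ R) K) ≫ ℓ) * ((b ≫ snd (G ⊗ R) K ≫ k) ≫ ii) := fun b => by
            rw [MonObj.comp_mul b]
            simp only [Category.assoc]
        rw [e2, e2, h1] at h2
        have h3 := mul_left_cancel h2
        rw [← cancel_mono k, ← cancel_mono ii]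
        simpa using h3
  have h5 : Isog.IsIsog (fst (G ⊗ R) K).left := by
    have h6 : IsPullback (fst (G ⊗ R) K) (snd (G ⊗ R) K) (toUnit _) (toUnit K) :=
      isPullback_of_pts (toUnit_unique _ _) (fun T x y _ => ⟨lift x y, lift_fst _ _, lift_snd _ _⟩)
        (fun T a a' h h' => CartesianMonoidalCategory.hom_ext _ _ h h')
    exact MorphismProperty.of_isPullback (P := Isog.IsIsog) (h6.map (Over.forget S)).flip hK
  exact MorphismProperty.of_isPullback_of_descendsAlong (P := Isog.IsIsog)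
    (Q := @Surjective ⊓ @Flat ⊓ @LocallyOfFinitePresentation) (hsq.map (Over.forget S))
    ⟨⟨hκ.surj, hκ.flat⟩, hκ.lfp⟩ h5

end K197.IsogLift
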