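import Groth.Agent.S8479
import Groth.Agent.S8480
import Groth.Agent.S8481
import Groth.Agent.S8482
import Groth.Agent.Red.K214.ZModel
import Groth.Agent.Red.K214.EmptyBase
import Groth.Agent.Red.K214.ChainComb
import Groth.Agent.Sga3B.BaseZ
import Groth.Agent.Sga3B.SplitRedField415

/-!
# Commutators of root groups on points of square zero

`Str P a b p`: `a` is not longer than `b` and `p - 1` is the largest `k` such that `b - k a` is a root.
`exists_str`: for `c = a + b` a root, `Str P a b p` or `Str P b a p` for some `p = 1, 2, 3`.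
`comm_nil`: for a Chevalley system `v` of a split group and `Str P a b p`, `c = a + b`,
`v_b(y) v_a(x) v_b(y)⁻¹ v_a(x)⁻¹ = v_c(± p x y)` whenever `x² = y² = 0`.
-/

set_option autoImplicit false
universe u
open CategoryTheory MonoidalCategory CartesianMonoidalCategory MonObj GrpObj AlgebraicGeometry CategoryTheory.Limits

namespace K197.NilComm

open Groth.Agent.Sga3B.GaPts K214.FnForm K214.ChainComb

section comb

variable {J M N : Type*} [AddCommGroup M] [AddCommGroup N]

/-- `a` is not longer than `b` and `p - 1` is the largest `k` such that `b - k a` is a root -/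
structure Str (P : RootPairing J ℤ M N) (a b : J) (p : ℕ) : Prop where
  len : |P.pairing a b| ≤ |P.pairing b a|
  one_le : 1 ≤ p
  mem : ∀ k : ℕ, k < p → P.root b - (k : ℤ) • P.root a ∈ Set.range P.root
  notMem : P.root b - (p : ℤ) • P.root a ∉ Set.range P.root

variable {P : RootPairing J ℤ M N} {a b c : J}

theorem exists_p [Finite J] [P.IsReduced] (h : LI P a b) (hc : P.root c = P.root a + P.root b) :
    ∃ p : ℕ, (p = 1 ∨ p = 2 ∨ p = 3) ∧
      (∀ k : ℕ, k < p → P.root b - (k : ℤ) • P.root a ∈ Set.range P.root) ∧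
      P.root b - (p : ℤ) • P.root a ∉ Set.range P.root := by
  obtain ⟨p', q, hpq, hch⟩ := chain h
  have k1 := (hch 1).mp ⟨c, by rw [hc]; module⟩
  have k2 : P.root b - ((p' + 1 : ℕ) : ℤ) • P.root a ∉ Set.range P.root := by
    intro h2
    have := (hch (-(p' + 1 : ℕ))).mp (by
      rw [show P.root b + (-((p' + 1 : ℕ) : ℤ)) • P.root a =
        P.root b - ((p' + 1 : ℕ) : ℤ) • P.root a by module]
      exact h2)
    omega
  -- the bottom of the string
  obtain ⟨d, hd⟩ := (hch (-p')).mpr ⟨le_refl _, by omega⟩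
  have hLI := h.of_root hd
  have h3 := pairing_of_root hd
  have h4 := (pair_cases hLI).1
  refine ⟨p' + 1, by omega, fun k hk => ?_, k2⟩
  have := (hch (-k)).mpr ⟨by omega, by omega⟩
  rw [show P.root b - (k : ℤ) • P.root a = P.root b + (-(k : ℤ)) • P.root a by module]
  exact this

theorem li_of_add [P.IsReduced] [NeZero (2 : ℤ)] (hM : ∀ x : M, (3 : ℤ) • x = 0 → x = 0)
    (hc : P.root c = P.root a + P.root b) : LI P a b := by
  suffices h : LinearIndependent ℤ ![P.root a, P.root b] from LinearIndependent.pair_iff.mp h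
  by_contra h
  rcases RootPairing.IsReduced.eq_or_eq_neg a b h with h1 | h1
  · have h2 : ¬ LinearIndependent ℤ ![P.root c, P.root a] := by
      rw [LinearIndependent.pair_iff]
      intro h2
      have := h2 1 (-2) (by rw [hc, ← h1]; module)
      omega
    rcases RootPairing.IsReduced.eq_or_eq_neg c a h2 with h3 | h3
    · apply P.ne_zero b
      rw [hc] at h3
      exact left_eq_add.mp h3.symm
    · apply P.ne_zero a
      apply hM
      rw [hc, ← h1] at h3
      calc (3 : ℤ) • P.root a = (P.root a + P.root a) - -P.root a := by module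
        _ = 0 := by rw [h3, sub_self]
  · apply P.ne_zero c
    rw [hc, h1, neg_add_cancel]

theorem exists_str [Finite J] [P.IsReduced] (h : LI P a b) (hc : P.root c = P.root a + P.root b) :
    ∃ p : ℕ, (p = 1 ∨ p = 2 ∨ p = 3) ∧ (Str P a b p ∨ Str P b a p) := by
  rcases le_total |P.pairing a b| |P.pairing b a| with hl | hl
  · obtain ⟨p, hp, h1, h2⟩ := exists_p h hc
    exact ⟨p, hp, Or.inl ⟨hl, by omega, h1, h2⟩⟩
  · obtain ⟨p, hp, h1, h2⟩ := exists_p h.symm (c := c) (by rw [hc, add_comm])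
    exact ⟨p, hp, Or.inr ⟨hl, by omega, h1, h2⟩⟩

end comb

section sys

variable {S : Scheme.{u}} {G : Over S} [GrpObj G]

/-- the coroots of a splitting -/
noncomputable def avc (D : Red.SplitRed G) (a : D.idx) : Red.Gm S ⟶ D.T :=
  Red.DSmap S (D.P.coroot a).toAddMonoidHom ≫ D.split.inv.hom.hom

/-- Chevalley systems in the form of the statements -/
structure Raw (D : Red.SplitRed G) (e₁ : 𝟙_ (Over S) ⟶ Red.Ga S) (v vd : D.idx → (Red.Ga S ⟶ G))
    (n : D.idx → (𝟙_ (Over S) ⟶ G)) : Prop where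
  he₁ : Red.gaFn e₁ = 1
  hv : ∀ c, Red.IsRootHom D.i (D.split.hom.hom.hom ≫ Red.chi S (D.P.root c)) (v c)
  hvd : ∀ c, IsMonHom (vd c) ∧ ∀ (X : Over S) (x y : X ⟶ Red.Ga S), IsUnit (1 + Red.gaFn x * Red.gaFn y) →
        ∃ (x' y' : X ⟶ Red.Ga S) (z : X ⟶ Red.Gm S), Red.gmFn z = 1 + Red.gaFn x * Red.gaFn y ∧
          Red.gaFn x' * Red.gmFn z = Red.gaFn x ∧ Red.gaFn y' * Red.gmFn z = Red.gaFn y ∧
          (x ≫ v c) * (y ≫ vd c) = (y' ≫ vd c) * (z ≫ avc D c ≫ D.i) * (x' ≫ v c)
  hn : ∀ c, n c = (e₁ ≫ v c) * (e₁ ≫ vd c)⁻¹ * (e₁ ≫ v c)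
  hSC : ∀ c b, ∃ ε : ℤ, (ε = 1 ∨ ε = -1) ∧ ∀ (X : Over S) (x y : X ⟶ Red.Ga S),
      Red.gaFn y = (ε : Γ(X.left, ⊤)) * Red.gaFn x →
        (toUnit X ≫ n c) * (x ≫ v b) * (toUnit X ≫ n c)⁻¹ = y ≫ v (D.P.reflectionPerm c b)

theorem exists_raw [Nonempty S] (D : Red.SplitRed G) : ∃ e₁ v vd n, Raw D e₁ v vd n := by
  have hred := Groth.Agent.Sga3B.SplitReduced415.isReduced D
  obtain ⟨Δ⟩ := Groth.Agent.Sga3B.BaseZ.nonempty_base D.P
  let Pn : Red.Pinning G := { D with base := Δ }
  obtain ⟨v, vd, hv, -⟩ := K214.ZModel.exists_chev Pn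
  let e₁ : 𝟙_ (Over S) ⟶ Red.Ga S := gaPt _ 1
  have he₁ : Red.gaFn e₁ = 1 := gaFn_gaPt _ _
  refine ⟨e₁, v, vd, _, he₁, hv.rootHom, fun c => ⟨hv.isMonHom c, ?_⟩, fun c => rfl, fun c b => ?_⟩
  · exact (hv.rule c).pts
  · obtain ⟨ε, hε, h⟩ := hv.conj c b
    refine ⟨ε, hε, fun X x y hxy => ?_⟩
    have := hv.isMonHom c
    rw [K214.FnForm.toUnit_N e₁ he₁, ← K214.FnForm.V_gaFn (v b) x, h, ← hxy, K214.FnForm.V_gaFn]

/-- **The commutator of two root groups on points of square zero** -/
theorem comm_nil [Nonempty S] {D : Red.SplitRed G} {e₁ v vd n} (H : Raw D e₁ v vd n)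
    {a b c : D.idx} (hc : D.P.root c = D.P.root a + D.P.root b) {p : ℕ} (hp : Str D.P a b p) :
    ∃ ε : ℤ, (ε = 1 ∨ ε = -1) ∧ ∀ (X : Over S) (x y : Γ(X.left, ⊤)), x ^ 2 = 0 → y ^ 2 = 0 →
      V (v b) X y * V (v a) X x * (V (v b) X y)⁻¹ * (V (v a) X x)⁻¹ =
        V (v c) X (ε * p * x * y) := by
  have hred := Groth.Agent.Sga3B.SplitReduced415.isReduced D
  have hLI : LI D.P a b := by
    refine li_of_add (fun x hx => ?_) hc
    exact (smul_eq_zero.mp hx).resolve_left (by norm_num)
  have hind : ∀ r s : ℤ, r • D.P.root a + s • D.P.root b = 0 → r = 0 ∧ s = 0 := hLI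
  have hvm : ∀ d, IsMonHom (v d) := fun d => (H.hv d).1
  have hz : ∀ (d : D.idx) (X : Over S), V (v d) X 0 = 1 := fun d X => V_zero (v d) X
  by_cases h2 : D.P.root b + (2 : ℤ) • D.P.root a ∈ Set.range D.P.root
  · obtain ⟨c₂, hc₂⟩ := h2
    obtain ⟨p', q, hpq, hch⟩ := chain hLI
    have k2 := (hch 2).mp ⟨c₂, hc₂⟩
    have hc₂' : D.P.root c₂ = (2 : ℤ) • D.P.root a + D.P.root b := by rw [hc₂, add_comm]
    obtain ⟨-, k5, k6, k7⟩ := pair_cases hLI
    -- the bottom of the string
    obtain ⟨d, hd⟩ := (hch (-p')).mpr ⟨le_refl _, by omega⟩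
    have k3 := pairing_of_root hd
    have k4 := (pair_cases (hLI.of_root hd)).1
    -- the number `p`
    have e1 : (p' : ℤ) < p := by
      by_contra h
      exact hp.notMem (by
        have := (hch (-p)).mpr ⟨by omega, by omega⟩
        rw [show D.P.root b - (p : ℤ) • D.P.root a = D.P.root b + (-(p : ℤ)) • D.P.root a by module]
        exact this)
    have e2 : (p : ℤ) ≤ p' + 1 := by
      by_contra h
      have h1 := hp.mem (p' + 1) (by omega)
      have := (hch (-(p' + 1 : ℕ))).mp (by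
        rw [show D.P.root b + (-((p' + 1 : ℕ) : ℤ)) • D.P.root a =
          D.P.root b - ((p' + 1 : ℕ) : ℤ) • D.P.root a by module]
        exact h1)
      omega
    have hlen := hp.len
    by_cases hm : D.P.root b - D.P.root a ∈ Set.range D.P.root
    · -- the case (2, 2)
      have k8 := (hch (-1)).mp (by
        rw [show D.P.root b + (-1 : ℤ) • D.P.root a = D.P.root b - D.P.root a by module]; exact hm)
      have hp2 : p = 2 := by omega
      have pba : D.P.pairing b a = -1 := by omega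
      have k9 := k7 pba
      have pab : D.P.pairing a b = -1 := by
        rw [pba, abs_of_neg k9] at hlen
        norm_num at hlen
        omega
      obtain ⟨p₂, q₂, hpq₂, hch₂⟩ := chain hLI.symm
      have k10 := (hch₂ (-1)).mp (by
        obtain ⟨g, hg⟩ := hm
        refine ⟨D.P.reflectionPerm g g, ?_⟩
        rw [D.P.root_reflectionPerm, D.P.reflection_apply_self, hg]
        module)
      obtain ⟨c₃, hc₃⟩ := (hch₂ 2).mpr ⟨by omega, by omega⟩
      obtain ⟨ε₁, ε₂, ε₃, h1, h2, h3, h⟩ := Groth.Agent.S8482.result S e₁ H.he₁ G D (avc D)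
        (fun _ => rfl) v vd H.hv H.hvd n H.hn H.hSC a b hind hp.len hm (fun h => by
          have := (hch (-2)).mp (by
            rw [show D.P.root b + (-2 : ℤ) • D.P.root a = D.P.root b - (2 : ℤ) • D.P.root a by module]
            exact h)
          omega) c c₂ c₃ hc hc₂' (fun h => by have := (hch 3).mp h; omega) hc₃
      refine ⟨ε₁, h1, fun X x y hx hy => ?_⟩
      have h4 := h X (gaPt X x) (gaPt X y) (gaPt X (ε₁ * p * x * y)) (gaPt X 0) (gaPt X 0)
        (by simp only [gaFn_gaPt]; rw [hp2]; push_cast; ring)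
        (by simp only [gaFn_gaPt]; rw [hx]; ring) (by simp only [gaFn_gaPt]; rw [hy]; ring)
      have h5 : ∀ d, gaPt X 0 ≫ v d = 1 := fun d => hz d X
      rw [h5, h5, _root_.mul_one, _root_.mul_one] at h4
      exact h4
    · have k8 : p' = 0 := by
        by_contra h
        have := (hch (-1)).mpr ⟨by omega, by omega⟩
        rw [show D.P.root b + (-1 : ℤ) • D.P.root a = D.P.root b - D.P.root a by module] at this
        exact hm this
      have hp1 : p = 1 := by omega
      by_cases hq : D.P.root b + (3 : ℤ) • D.P.root a ∈ Set.range D.P.root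
      · -- the case (1, 3)
        have k9 := (hch 3).mp hq
        obtain ⟨c₃, hc₃⟩ := hq
        have pba : D.P.pairing b a = -3 := by omega
        have pab := k5 pba
        have hc₄ : D.P.root (D.P.reflectionPerm b c₃) = (3 : ℤ) • D.P.root a + (2 : ℤ) • D.P.root b := by
          have k11 : D.P.pairing c₃ b = -1 := by
            have h1 := D.P.root_coroot'_eq_pairing b c₃
            rw [hc₃, map_add, map_smul, D.P.root_coroot'_eq_pairing, D.P.root_coroot'_eq_pairing,
              D.P.pairing_same, pab] at h1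
            rw [← h1]
            norm_num
          rw [D.P.root_reflectionPerm, D.P.reflection_apply_root, k11, hc₃]
          module
        obtain ⟨ε, h1, h⟩ := Groth.Agent.S8481.result S e₁ H.he₁ G D (avc D) (fun _ => rfl) v vd H.hv
          H.hvd n H.hn H.hSC a b hind hp.len hm c c₂ c₃ _ hc hc₂' (by rw [hc₃, add_comm]) hc₄
        refine ⟨ε 0, h1 0, fun X x y hx hy => ?_⟩
        have h4 := h X (gaPt X x) (gaPt X y) (gaPt X (ε 0 * p * x * y)) (gaPt X 0) (gaPt X 0)
          (gaPt X 0) (by simp only [gaFn_gaPt]; rw [hp1]; push_cast; ring)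
          (by simp only [gaFn_gaPt]; rw [hx]; ring)
          (by simp only [gaFn_gaPt]; rw [pow_succ, hx]; ring)
          (by simp only [gaFn_gaPt]; rw [hy]; ring)
        have h5 : ∀ d, gaPt X 0 ≫ v d = 1 := fun d => hz d X
        rw [h5, h5, h5, _root_.mul_one, _root_.mul_one, _root_.mul_one] at h4
        exact h4
      · -- the case (1, 2)
        obtain ⟨ε₁, ε₂, h1, h2, h⟩ := Groth.Agent.S8480.result S e₁ H.he₁ G D (avc D)
          (fun _ => rfl) v vd H.hv H.hvd n H.hn H.hSC a b hind hp.len hm c c₂ hc hc₂' hq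
        refine ⟨ε₁, h1, fun X x y hx hy => ?_⟩
        have h4 := h X (gaPt X x) (gaPt X y) (gaPt X (ε₁ * p * x * y)) (gaPt X 0)
          (by simp only [gaFn_gaPt]; rw [hp1]; push_cast; ring)
          (by simp only [gaFn_gaPt]; rw [hx]; ring)
        have h5 : ∀ d, gaPt X 0 ≫ v d = 1 := fun d => hz d X
        rw [h5, _root_.mul_one] at h4
        exact h4
  · obtain ⟨ε, hε, h⟩ := Groth.Agent.S8479.result S e₁ H.he₁ G D (avc D) (fun _ => rfl) v vd H.hv H.hvd n
      H.hn H.hSC a b hind hp.len c hc h2 p hp.one_le hp.mem hp.notMem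
    refine ⟨ε, hε, fun X x y _ _ => ?_⟩
    exact h X (gaPt X x) (gaPt X y) (gaPt X _) (by simp only [gaFn_gaPt])

end sys

end K197.NilComm
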