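import Groth.Agent.RedSub.H654.RootNN
import Groth.Agent.Sga3B.SplitRedField415
import Groth.Prelude.Def_RedSub

/-!
# The saturated root lattice and the characters killed by the coroots
-/

set_option autoImplicit false
set_option linter.unusedSectionVars false
universe u

namespace K197.RadLat

open Groth.Agent.Sga3B Groth.Agent.Sga3B.Cell Groth.Agent.RedSub.H654
open Groth.Agent.RedSub.H654.UnivPt

variable {idx M : Type} [Fintype idx] [AddCommGroup M] [Module.Free ℤ M]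
    [Module.Finite ℤ M] (P : RootPairing idx ℤ M (Module.Dual ℤ M))

/-- the root lattice -/
def QQ : AddSubgroup M := (Submodule.span ℤ (Set.range P.root)).toAddSubgroup

/-- the saturated root lattice -/
def PP : AddSubgroup M where
  carrier := {m | ∃ k : ℤ, k ≠ 0 ∧ k • m ∈ QQ P}
  zero_mem' := ⟨1, one_ne_zero, by simp⟩
  add_mem' := by
    rintro a b ⟨k, hk, ha⟩ ⟨l, hl, hb⟩
    refine ⟨k * l, mul_ne_zero hk hl, ?_⟩
    rw [smul_add, mul_comm k l, mul_smul, mul_comm l k, mul_smul]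
    exact add_mem ((QQ P).zsmul_mem ha _) ((QQ P).zsmul_mem hb _)
  neg_mem' := by
    rintro a ⟨k, hk, ha⟩
    refine ⟨k, hk, ?_⟩
    rw [smul_neg]
    exact neg_mem ha

lemma mem_PP {m : M} : m ∈ PP P ↔ ∃ k : ℤ, k ≠ 0 ∧ k • m ∈ QQ P := Iff.rfl

lemma QQ_le_PP : QQ P ≤ PP P := fun m hm => ⟨1, one_ne_zero, by simpa using hm⟩

lemma root_mem_QQ (a : idx) : P.root a ∈ QQ P := Submodule.subset_span ⟨a, rfl⟩

instance : Module.IsTorsionFree ℤ (M ⧸ PP P) := by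
  refine Module.IsTorsionFree.of_smul_eq_zero fun k x h => ?_
  obtain ⟨m, rfl⟩ := QuotientAddGroup.mk'_surjective _ x
  by_cases hk : k = 0
  · exact Or.inl hk
  · right
    rw [← map_zsmul] at h
    obtain ⟨l, hl, hm⟩ : k • m ∈ PP P := (QuotientAddGroup.eq_zero_iff _).1 h
    refine (QuotientAddGroup.eq_zero_iff _).2 ⟨l * k, mul_ne_zero hl hk, ?_⟩
    rwa [mul_smul]

instance finite_quot (N : AddSubgroup M) : Module.Finite ℤ (M ⧸ N) :=
  Module.Finite.of_surjective (QuotientAddGroup.mk' N).toIntLinearMap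
    (QuotientAddGroup.mk'_surjective N)

instance : Module.Free ℤ (M ⧸ PP P) := inferInstance

variable {P} (N : AddSubgroup M) (hN : ∀ m : M, m ∈ N ↔ ∀ a : idx, P.coroot a m = 0)
  (hP : P.toLinearMap = Module.Dual.eval ℤ M)

include hN hP

lemma eq_zero_of_mem_QQ {m : M} (h1 : m ∈ QQ P) (h2 : m ∈ N) : m = 0 := by
  apply P.eq_zero_of_mem_rootSpan_of_rootForm_self_eq_zero h1
  rw [P.rootForm_apply_apply]
  apply Finset.sum_eq_zero
  intro i _
  have h3 : P.coroot' i m = 0 := by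
    have h2 : P.coroot' i m = P.coroot i m := by
      change P.toLinearMap m (P.coroot i) = _
      rw [hP]
      rfl
    rw [h2]
    exact (hN m).1 ‹_› i
  rw [h3, zero_mul]

lemma eq_zero_of_mem_PP {m : M} (h1 : m ∈ PP P) (h2 : m ∈ N) : m = 0 := by
  obtain ⟨k, hk, h⟩ := h1
  have h3 := eq_zero_of_mem_QQ N hN hP h (N.zsmul_mem h2 k)
  exact (smul_eq_zero.1 h3).resolve_left hk

/-- a multiple of every character is in `Q + N` -/
lemma exists_zsmul [P.IsReduced] (m : M) : ∃ k : ℤ, k ≠ 0 ∧ ∃ q ∈ QQ P, ∃ n ∈ N, k • m = q + n := by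
  obtain ⟨b⟩ := BaseZ.nonempty_base P
  obtain ⟨k, hk, h⟩ := RootNN.exists_zsmul hP b
  obtain ⟨β, hβ, hn⟩ := h m
  refine ⟨k, hk, β, hβ, k • m - β, (hN _).2 fun a => RootNN.coroot_eq_zero hn a, by abel⟩

lemma injective_prod : Function.Injective
    ((QuotientAddGroup.mk' (PP P)).prod (QuotientAddGroup.mk' N)) := by
  rw [injective_iff_map_eq_zero]
  intro m hm
  rw [AddMonoidHom.prod_apply, Prod.mk_eq_zero] at hm
  exact eq_zero_of_mem_PP N hN hP ((QuotientAddGroup.eq_zero_iff m).1 hm.1)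
    ((QuotientAddGroup.eq_zero_iff m).1 hm.2)

lemma torsion_prod [P.IsReduced] (x : (M ⧸ PP P) × (M ⧸ N)) : ∃ k : ℤ, k ≠ 0 ∧
    k • x ∈ ((QuotientAddGroup.mk' (PP P)).prod (QuotientAddGroup.mk' N)).range := by
  obtain ⟨x₁, x₂⟩ := x
  obtain ⟨m₁, rfl⟩ := QuotientAddGroup.mk'_surjective _ x₁
  obtain ⟨m₂, rfl⟩ := QuotientAddGroup.mk'_surjective _ x₂
  obtain ⟨k₁, hk₁, q₁, hq₁, n₁, hn₁, h₁⟩ := exists_zsmul N hN hP m₁
  obtain ⟨k₂, hk₂, q₂, hq₂, n₂, hn₂, h₂⟩ := exists_zsmul N hN hP m₂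
  refine ⟨k₁ * k₂, mul_ne_zero hk₁ hk₂, k₂ • n₁ + k₁ • q₂, ?_⟩
  have e1 : (QuotientAddGroup.mk' (PP P)) q₁ = 0 :=
    (QuotientAddGroup.eq_zero_iff _).2 (QQ_le_PP P hq₁)
  have e2 : (QuotientAddGroup.mk' (PP P)) q₂ = 0 :=
    (QuotientAddGroup.eq_zero_iff _).2 (QQ_le_PP P hq₂)
  have e3 : (QuotientAddGroup.mk' N) n₁ = 0 := (QuotientAddGroup.eq_zero_iff _).2 hn₁
  have e4 : (QuotientAddGroup.mk' N) n₂ = 0 := (QuotientAddGroup.eq_zero_iff _).2 hn₂
  rw [AddMonoidHom.prod_apply, Prod.smul_mk, Prod.mk.injEq]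
  constructor
  · rw [map_add, map_zsmul, map_zsmul, e2, smul_zero, add_zero, mul_comm, mul_smul, ← map_zsmul _ k₁,
      h₁, map_add, e1, zero_add]
  · rw [map_add, map_zsmul, map_zsmul, e3, smul_zero, zero_add, mul_smul, ← map_zsmul _ k₂,
      h₂, map_add, e4, add_zero]

lemma injective_N : Function.Injective ((QuotientAddGroup.mk' (PP P)).comp N.subtype) := by
  rw [injective_iff_map_eq_zero]
  intro m hm
  exact Subtype.ext (eq_zero_of_mem_PP N hN hP ((QuotientAddGroup.eq_zero_iff (m : M)).1 hm) m.2)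

lemma torsion_N [P.IsReduced] (x : M ⧸ PP P) : ∃ k : ℤ, k ≠ 0 ∧
    k • x ∈ ((QuotientAddGroup.mk' (PP P)).comp N.subtype).range := by
  obtain ⟨m, rfl⟩ := QuotientAddGroup.mk'_surjective _ x
  obtain ⟨k, hk, q, hq, n, hn, h⟩ := exists_zsmul N hN hP m
  have e1 : (QuotientAddGroup.mk' (PP P)) q = 0 :=
    (QuotientAddGroup.eq_zero_iff _).2 (QQ_le_PP P hq)
  refine ⟨k, hk, ⟨n, hn⟩, ?_⟩
  rw [← map_zsmul, h, map_add, e1, zero_add]
  rfl

end K197.RadLat
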