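import Groth.Agent.RedSub.K194.Kill
import Groth.Agent.RedSub.H636.CellPts
import Groth.Agent.S5532

/-!
# Unipotent subgroups normalised by the torus of a splitting are products of root groups
-/

set_option autoImplicit false
universe u

open CategoryTheory MonoidalCategory CartesianMonoidalCategory MonObj GrpObj AlgebraicGeometry Limits

namespace K197.UnipT

open Groth.Agent.Sga3B Groth.Agent.RedSub.H636.CellPts

lemma prod_ofFn_single {A : Type*} [Monoid A] : ∀ {n : ℕ} (k : Fin n) (f : Fin n → A), (∀ j, j ≠ k → f j = 1) →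
    (List.ofFn f).prod = f k
  | 0, k, _, _ => k.elim0
  | n + 1, k, f, hf => by
    rw [List.ofFn_succ, List.prod_cons]
    revert hf
    refine Fin.cases ?_ ?_ k
    · intro hf
      have h1 : (List.ofFn fun i : Fin n => f i.succ) = List.ofFn fun _ : Fin n => (1 : A) := by
        congr 1
        funext i
        exact hf _ (Fin.succ_ne_zero i)
      rw [h1]
      simp
    · intro k hf
      rw [hf 0 (Fin.succ_ne_zero k).symm, _root_.one_mul]
      exact prod_ofFn_single k (fun i => f i.succ) fun j hj => hf _ fun h => hj (Fin.succ_injective _ h)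

variable {S : Scheme.{u}}

/-- a unipotent radical is contained in any other one -/
lemma unip_le {P U U' : Over S} [GrpObj P] [GrpObj U] [GrpObj U'] {u : U ⟶ P} {u' : U' ⟶ P}
    (hu : Par.IsUnipotentRadical u) (hu' : Par.IsUnipotentRadical u') : ∃ f : U ⟶ U', f ≫ u' = u := by
  have := hu.1
  exact hu'.2.2.2.2.2.2 U u hu.2.1 hu.2.2.1 hu.2.2.2.1 hu.2.2.2.2.1 hu.2.2.2.2.2.1

/-- **unipotent subgroups normalised by the torus are products of root groups** -/
theorem main [ConnectedSpace S] {G U : Over S} [GrpObj G] [GrpObj U] (D : Red.SplitRed G) (j : U ⟶ G)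
    (hU : RedSub.IsSubgrp j) [Smooth U.hom]
    (hfib : ∀ s : S, ConnectedSpace ↥(Red.geomFibre s U).left ∧
      Red.HasNoSubtorus (AlgebraicClosure (S.residueField s)) (Red.geomFibre s U))
    (hnorm : ∀ (X : Over S) (x : X ⟶ D.T) (y : X ⟶ U), ∃ y' : X ⟶ U, (x ≫ D.i) * (y ≫ j) * (x ≫ D.i)⁻¹ = y' ≫ j) :
    (∃ b : D.P.Base, {a : D.idx | ∃ v : Red.Ga S ⟶ U, v ≫ j = D.u a} ⊆ RedSub.posRoots D.P b) ∧
      ∀ {m : ℕ} (e : Fin m → D.idx), RedSub.Enumerates {a : D.idx | ∃ v : Red.Ga S ⟶ U, v ≫ j = D.u a} e →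
        ∃ ψ : RedSub.pow (Red.Ga S) m ≅ U, ψ.hom ≫ j = RedSub.prodMap (Red.Ga S) m (fun k => D.u (e k)) := by
  obtain ⟨H, _, h, t, u, hH, hsolv, ht, hu, htm, hum, hrad, hiso⟩ :=
    Groth.Agent.S5532.result D.reductive D.i D.maximalTorus j hU hfib hnorm
  obtain ⟨s⟩ : Nonempty S := inferInstance
  obtain ⟨b, hb⟩ := K194.Main1.exists_base D h hH t ht (Red.geomPt s) (hsolv s)
  let R' : Set D.idx := {a | ∃ v : Red.Ga S ⟶ H, v ≫ h = D.u a}
  have hbR : R' ⊆ RedSub.posRoots D.P b := by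
    intro a ha
    rw [Groth.Agent.RedSub.H637.PosRoots.mem_posRoots_iff]
    exact hb a ha
  obtain ⟨U₁, _, u₁, hu₁, -, -, hrad₁, -, hψ⟩ := K195.Solv.exists_all hH ht (R' := R') (fun a => Iff.rfl) b hbR
  have hucl := hrad.2.1
  have hu₁cl := hrad₁.2.1
  have hum : Mono u := Over.mono_of_mono_left u
  have hu₁m : Mono u₁ := Over.mono_of_mono_left u₁
  obtain ⟨f, hf⟩ := unip_le hrad₁ hrad
  obtain ⟨g, hg⟩ := unip_le hrad hrad₁
  let ε : U₁ ≅ U := ⟨f, g, by rw [← cancel_mono u₁, Category.assoc, hg, hf, Category.id_comp],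
    by rw [← cancel_mono u, Category.assoc, hf, hg, Category.id_comp]⟩
  have hRR : {a : D.idx | ∃ v : Red.Ga S ⟶ U, v ≫ j = D.u a} = R' := by
    ext a
    constructor
    · rintro ⟨v, hv⟩
      exact ⟨v ≫ u, by rw [Category.assoc, hu, hv]⟩
    · intro ha
      obtain ⟨m, e, he⟩ := Groth.Agent.RedSub.H637.PosRoots.exists_enumerates R'
      obtain ⟨ψ, hψ'⟩ := hψ e he
      obtain ⟨k, hk⟩ : a ∈ Set.range e := by
        rw [he.2]
        exact ha
      refine ⟨powPt m (fun l => if l = k then 𝟙 _ else 1) ≫ ψ.hom ≫ f, ?_⟩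
      rw [← hu, Category.assoc, Category.assoc, reassoc_of% hf, hψ', powPt_prodMap, prod_ofFn_single k]
      · rw [if_pos rfl, Category.id_comp, hk]
      · intro l hl
        have hua : IsMonHom (D.u (e l)) := (D.rootHom (e l)).1
        rw [if_neg hl]
        exact MonObj.one_comp _
  rw [hRR]
  refine ⟨⟨b, hbR⟩, fun {m} e he => ?_⟩
  obtain ⟨ψ, hψ'⟩ := hψ e he
  refine ⟨ψ ≪≫ ε, ?_⟩
  change (ψ.hom ≫ f) ≫ j = _
  rw [← hu, Category.assoc, reassoc_of% hf, hψ']

end K197.UnipT
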